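import Cfsg.Agent.H86.BaseTwo.Spec
import Cfsg.Agent.H86.BaseThree.Component

/-! Commutation signs and squares in a layer of exponent two modulo the scalars. -/

set_option autoImplicit false
set_option linter.unusedSectionVars false
set_option linter.style.haveILetI false

namespace Cfsg.Agent.H67.BaseTwo

open Cfsg.Agent.H86.BaseThree

universe u

variable {G : Type u} [Group G] [Finite G] {V : Type u} [AddCommGroup V] [DistribMulAction G V]
  [Finite V] [Nontrivial V] [FaithfulSMul G V] {K : Type u} [Field K] [Finite K] [Module K V]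

/-- Two elements anticommute on the module. -/
def Anti (V : Type u) [AddCommGroup V] [DistribMulAction G V] (e f : G) : Prop :=
  ∀ v : V, e • f • v = -(f • e • v)

theorem commute_iff_smul {e f : G} : Commute e f ↔ ∀ v : V, e • f • v = f • e • v :=
  ⟨fun h v => by rw [← mul_smul, h.eq, mul_smul],
    fun h => eq_of_smul_eq_smul (α := V) fun v => by rw [mul_smul, mul_smul, h]⟩

theorem Anti.symm {e f : G} (h : Anti V e f) : Anti V f e := fun v => by rw [h, neg_neg]

theorem Anti.inv_left {e f : G} (h : Anti V e f) : Anti V e⁻¹ f := fun v => by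
  have h1 := h (e⁻¹ • v)
  rw [smul_inv_smul] at h1
  rw [inv_smul_eq_iff, smul_neg, h1, neg_neg]

theorem Anti.mul_anti {e f g : G} (h : Anti V e g) (h' : Anti V f g) : Commute (e * f) g :=
  commute_iff_smul (V := V).2 fun v => by simp only [mul_smul, h' v, smul_neg, h (f • v), neg_neg]

theorem Anti.mul_commute {e f g : G} (h : Anti V e g) (h' : Commute f g) : Anti V (e * f) g :=
  fun v => by rw [mul_smul, mul_smul, commute_iff_smul.1 h' v, h]

theorem Anti.commute_mul {e f g : G} (h : Commute e g) (h' : Anti V f g) : Anti V (e * f) g :=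
  fun v => by rw [mul_smul, mul_smul, h' v, smul_neg, commute_iff_smul.1 h (f • v)]

theorem Anti.not_commute {e f : G} (h : Anti V e f) (h2 : (2 : K) ≠ 0) : ¬ Commute e f := by
  intro hc
  obtain ⟨v, hv⟩ := exists_ne (0 : V)
  refine hv ?_
  have h1 := h v
  rw [commute_iff_smul.1 hc v] at h1
  have h3 : (2 : K) • (f • e • v) = 0 := by
    rw [two_smul]
    nth_rewrite 1 [h1]
    exact neg_add_cancel _
  have := (smul_eq_zero.1 h3).resolve_left h2
  rwa [smul_eq_zero_iff_eq, smul_eq_zero_iff_eq] at this

variable (L : Layer G V K) (hexp : ∀ e ∈ L.E, e * e ∈ L.U)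
include hexp

theorem exists_square_scalar {e : G} (he : e ∈ L.E) :
    ∃ l : K, l ≠ 0 ∧ ∀ v : V, e • e • v = l • v :=
  ⟨L.ι ⟨_, hexp e he⟩, Units.ne_zero _, fun v => by rw [← L.smul_ι, mul_smul]⟩

theorem commute_or_anti {e f : G} (he : e ∈ L.E) (hf : f ∈ L.E) : Commute e f ∨ Anti V e f := by
  obtain ⟨l, -, hl⟩ := exists_square_scalar L hexp he
  have hc := L.chi_smul he hf
  set c := L.chi e f
  have h1 : c * c = 1 := by
    obtain ⟨v, hv⟩ := exists_ne (0 : V)
    have hne : f • e • e • v ≠ 0 := fun h => hv (by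
      rwa [smul_eq_zero_iff_eq, smul_eq_zero_iff_eq, smul_eq_zero_iff_eq] at h)
    refine smul_left_injective K hne (?_ : (c * c) • _ = (1 : K) • _)
    calc (c * c) • f • e • e • v = e • e • f • v := by
          rw [hc v, L.linear e he, hc (e • v), smul_smul c c]
      _ = (1 : K) • f • e • e • v := by rw [hl, hl, L.linear f hf, one_smul]
  rcases mul_self_eq_one_iff.1 h1 with h | h
  · exact Or.inl (commute_iff_smul.2 fun v => by rw [hc, h, one_smul])
  · exact Or.inr fun v => by rw [hc, h, neg_one_smul]

/-- Over five elements every square in the layer is the square of a scalar. -/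
theorem square_scalar_of_card_five (h5 : Nat.card K = 5) {e : G} (he : e ∈ L.E) {l : K}
    (hl : ∀ v : V, e • e • v = l • v) : IsSquare l := by
  classical
  haveI := Fintype.ofFinite K
  have hF : Fintype.card K = 5 := by rw [← Nat.card_eq_fintype_card, h5]
  let N : Subgroup G :=
    { carrier := {g | g ∈ L.E ∧ ∀ m : K, (∀ v : V, g • g • v = m • v) → m ^ 2 = 1}
      one_mem' := ⟨one_mem _, fun m hm => by
        have : m = 1 := eq_of_smul_eq' (V := V) fun v => by rw [← hm v, one_smul, one_smul, one_smul]
        rw [this, one_pow]⟩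
      mul_mem' := by
        rintro g g' ⟨hg, h⟩ ⟨hg', h'⟩
        refine ⟨mul_mem hg hg', fun m hm => ?_⟩
        obtain ⟨a, -, ha⟩ := exists_square_scalar L hexp hg
        obtain ⟨b, -, hb⟩ := exists_square_scalar L hexp hg'
        rcases commute_or_anti L hexp hg' hg with hc | hc
        · have : m = a * b := eq_of_smul_eq' (V := V) fun v => by
            rw [← hm v, mul_smul g g', mul_smul g g', commute_iff_smul.1 hc, ha, hb, smul_smul]
          rw [this, mul_pow, h a ha, h' b hb, mul_one]
        · have : m = -(a * b) := eq_of_smul_eq' (V := V) fun v => by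
            rw [← hm v, mul_smul g g', mul_smul g g', hc, smul_neg, ha, hb, smul_smul, neg_smul]
          rw [this, neg_sq, mul_pow, h a ha, h' b hb, mul_one]
      inv_mem' := by
        rintro g ⟨hg, h⟩
        refine ⟨inv_mem hg, fun m hm => ?_⟩
        obtain ⟨a, ha0, ha⟩ := exists_square_scalar L hexp hg
        have : a * m = 1 := eq_of_smul_eq' (V := V) fun v => by
          have h1 := ha (g⁻¹ • g⁻¹ • v)
          rw [smul_inv_smul, smul_inv_smul, hm v, smul_smul] at h1
          rw [← h1, one_smul]
        rw [eq_inv_of_mul_eq_one_right this, inv_pow, h a ha, inv_one] }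
  have hfour : ∀ a : K, a ≠ 0 → a ^ 4 = 1 := fun a ha => by
    have := FiniteField.pow_card_sub_one_eq_one a ha
    rwa [hF] at this
  have hsign : ∀ g ∈ L.E, g ∈ N ∨ ∀ m : K, (∀ v : V, g • g • v = m • v) → m ^ 2 = -1 := by
    intro g hg
    obtain ⟨a, ha0, ha⟩ := exists_square_scalar L hexp hg
    have huniq : ∀ m : K, (∀ v : V, g • g • v = m • v) → m = a := fun m hm =>
      eq_of_smul_eq' (V := V) fun v => by rw [← hm, ha]
    rcases mul_self_eq_one_iff.1 (show a ^ 2 * a ^ 2 = 1 by rw [← pow_add]; exact hfour a ha0)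
      with h | h
    · exact Or.inl ⟨hg, fun m hm => by rw [huniq m hm, h]⟩
    · exact Or.inr fun m hm => by rw [huniq m hm, h]
  have hNn : N.Normal := ⟨fun g hg x => by
    refine ⟨L.E_normal.conj_mem g hg.1 x, fun m hm => ?_⟩
    obtain ⟨a, -, ha⟩ := exists_square_scalar L hexp hg.1
    have : m = L.σ x a := eq_of_smul_eq' (V := V) fun v => by
      rw [← hm v]
      simp only [mul_smul, inv_smul_smul, ha, L.smul_σ, smul_inv_smul]
    rw [this, ← map_pow, hg.2 a ha, map_one]⟩
  have hUN : L.U ≤ N := fun u hu => ⟨L.U_le hu, fun m hm => by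
    have h1 : m = (L.ι ⟨u, hu⟩ : K) * L.ι ⟨u, hu⟩ := eq_of_smul_eq' (V := V) fun v => by
      rw [← hm v, L.smul_ι ⟨u, hu⟩, L.smul_ι ⟨u, hu⟩, smul_smul]
    rw [h1, ← hfour _ (Units.ne_zero (L.ι ⟨u, hu⟩))]
    ring⟩
  have hEN : L.E ≤ N := by
    let W : Subgroup G := L.E ⊓ Subgroup.centralizer (N : Set G)
    haveI := hNn
    haveI := L.E_normal
    haveI : (Subgroup.centralizer (N : Set G)).Normal := inferInstance
    have hW : W ≤ L.U := by
      refine L.maximal W inferInstance (fun a ha b hb => ?_) fun w hw =>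
        ⟨L.U_le hw, Subgroup.mem_centralizer_iff.2 fun g hg => (L.commute_U hw hg.1).symm⟩
      have hcN : ∀ g ∈ N, ∀ w ∈ W, g * w = w * g := fun g hg w hw =>
        Subgroup.mem_centralizer_iff.1 hw.2 g hg
      rcases hsign a ha.1 with haN | haN
      · exact hcN a haN b hb
      rcases hsign b hb.1 with hbN | hbN
      · exact (hcN b hbN a ha).symm
      -- the product of two outsiders
      have habN : a * b ∈ N := by
        refine ⟨mul_mem ha.1 hb.1, fun m hm => ?_⟩
        obtain ⟨p, -, hp⟩ := exists_square_scalar L hexp ha.1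
        obtain ⟨q, -, hq⟩ := exists_square_scalar L hexp hb.1
        rcases commute_or_anti L hexp hb.1 ha.1 with hc | hc
        · have : m = p * q := eq_of_smul_eq' (V := V) fun v => by
            rw [← hm v, mul_smul a b, mul_smul a b, commute_iff_smul.1 hc, hp, hq, smul_smul]
          rw [this, mul_pow, haN p hp, hbN q hq, neg_mul_neg, one_mul]
        · have : m = -(p * q) := eq_of_smul_eq' (V := V) fun v => by
            rw [← hm v, mul_smul a b, mul_smul a b, hc, smul_neg, hp, hq, smul_smul, neg_smul]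
          rw [this, neg_sq, mul_pow, haN p hp, hbN q hq, neg_mul_neg, one_mul]
      have h1 := hcN _ habN a ha
      rw [← mul_assoc, mul_assoc a b a, mul_assoc a a b] at h1
      exact (mul_left_cancel h1).symm
    intro g hg
    refine L.mem_of_commute_centralizer hUN (fun _ h => h.1) hg fun r hr hrc => ?_
    exact L.commute_U (hW ⟨hr, Subgroup.mem_centralizer_iff.2 hrc⟩) hg
  have hl0 : l ≠ 0 := by
    rintro rfl
    obtain ⟨v, hv⟩ := exists_ne (0 : V)
    have := hl v
    rw [zero_smul, smul_eq_zero_iff_eq, smul_eq_zero_iff_eq] at this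
    exact hv this
  refine (FiniteField.isSquare_iff ?_ hl0).2 ?_
  · intro h
    have := FiniteField.even_card_of_char_two h
    rw [hF] at this
    omega
  · rw [hF]
    exact (hEN he).2 l hl

end Cfsg.Agent.H67.BaseTwo
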