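import Cfsg.Agent.H67.BaseTwo.Pauli
import Cfsg.Agent.H67.BaseTwo.Signs

/-! A small layer acts by the standard monomial operators in suitable coordinates. -/

set_option autoImplicit false
set_option linter.unusedSectionVars false
set_option linter.style.haveILetI false

namespace Cfsg.Agent.H67.BaseTwo

open Cfsg.Agent.H86.BaseThree
open Cfsg.Agent.H86.BaseTwo (pauli quat pairing Shape Model)

universe u

variable {K : Type u} [Field K]

/-- The quaternion operator, if asked for. -/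
def qif (d : ℕ) (j : Bool) (v : Fin (2 ^ d) → K) : Fin (2 ^ d) → K :=
  if h : 0 < d ∧ j = true then quat d h.1 v else v

theorem qif_false (d : ℕ) (v : Fin (2 ^ d) → K) : qif d false v = v := by simp [qif]

theorem qif_true {d : ℕ} (hd : 0 < d) (v : Fin (2 ^ d) → K) : qif d true v = quat d hd v := by
  simp [qif, hd]

theorem pairing_zero (n : ℕ) : pairing 0 n = 0 := by simp [pairing]

theorem pauli_zero {d : ℕ} (v : Fin (2 ^ d) → K) :
    pauli d ⟨0, Nat.two_pow_pos d⟩ ⟨0, Nat.two_pow_pos d⟩ v = v := by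
  funext z
  rw [pauli_apply, pairing_zero, pow_zero, one_mul]
  exact congrArg v (Fin.ext (Nat.xor_zero _))

theorem qif_halves {d : ℕ} (hd : d ≤ 4) (j : Bool) (hj : j = true → 0 < d)
    (v : Fin (2 ^ (d + 1)) → K) :
    vlo (qif (d + 1) j v) = qif d j (vlo v) ∧ vhi (qif (d + 1) j v) = qif d j (vhi v) := by
  cases j with
  | false => simp only [qif_false, and_self]
  | true =>
    rw [qif_true (Nat.succ_pos d), qif_true (hj rfl), qif_true (hj rfl)]
    exact quat_halves hd (hj rfl) _ v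

variable {G : Type u} [Group G] [Finite G] {V : Type u} [AddCommGroup V] [DistribMulAction G V]
  [Finite V] [Nontrivial V] [FaithfulSMul G V] [Finite K] [Module K V]

/-- Coordinates for a part of the layer. -/
structure St (L : Layer G V K) (x : V) (minus : Bool) (d : ℕ) where
  Φ : (Fin (2 ^ d) → K) →ₗ[K] V
  inj : Function.Injective Φ
  pos : minus = true → 0 < d
  H : Set G
  le : H ⊆ L.E
  one : 1 ∈ H
  mem : ∀ (a b : Fin (2 ^ d)) (j : Bool), (minus = true → a.1 % 2 = b.1 % 2) →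
    (j = true → minus = true) →
    ∃ h ∈ H, ∃ k : K, k ≠ 0 ∧ ∀ v, h • Φ v = k • Φ (pauli d a b (qif d j v))
  rep : ∀ h ∈ H, ∃ (a b : Fin (2 ^ d)) (j : Bool), (minus = true → a.1 % 2 = b.1 % 2) ∧
    (j = true → minus = true) ∧
    ∃ k : K, k ≠ 0 ∧ ∀ v, h • Φ v = k • Φ (pauli d a b (qif d j v))
  span : ∀ v, Φ v ∈ Submodule.span K ((fun h : G => h • x) '' H)
  decomp : ∀ e ∈ L.E, ∃ h ∈ H, ∀ g ∈ H, Commute (e * h⁻¹) g
  decompA : ∀ e ∈ L.lineStab x, ∃ h ∈ H, h ∈ L.lineStab x ∧ ∀ g ∈ H, Commute (e * h⁻¹) g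
  key : ∀ z ∈ L.lineCent x, (∀ g ∈ H, Commute z g) → z ∈ L.lineStab x
  m : ℕ
  m_eq : m + (if minus then 1 else 0) = d
  T : Finset G
  T_card : T.card = 2 ^ m
  T_mem : ∀ i ∈ T, i ∈ H
  T_sep : ∀ i ∈ T, ∀ i' ∈ T, i⁻¹ * i' ∈ L.lineCent x → i = i'
  T_cover : ∀ h ∈ H, ∃ i ∈ T, i⁻¹ * h ∈ L.lineCent x

variable {L : Layer G V K} {x : V} {minus : Bool} {d : ℕ}

theorem card_le_relIndex (T : Finset G) (hT : ∀ i ∈ T, i ∈ L.E)
    (hsep : ∀ i ∈ T, ∀ i' ∈ T, i⁻¹ * i' ∈ L.lineCent x → i = i') :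
    T.card ≤ (L.lineCent x).relIndex L.E := by
  classical
  rw [Subgroup.relIndex, Subgroup.index_eq_card,
    ← Fintype.card_coe T, ← Nat.card_eq_fintype_card]
  refine Nat.card_le_card_of_injective
    (fun i : T => (QuotientGroup.mk ⟨i.1, hT i.1 i.2⟩ : L.E ⧸ (L.lineCent x).subgroupOf L.E))
    fun i i' h => Subtype.ext (hsep i.1 i.2 i'.1 i'.2 ?_)
  exact Subgroup.mem_subgroupOf.1 (QuotientGroup.eq.1 h)

theorem card_eq_relIndex (T : Finset G) (hT : ∀ i ∈ T, i ∈ L.E)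
    (hsep : ∀ i ∈ T, ∀ i' ∈ T, i⁻¹ * i' ∈ L.lineCent x → i = i')
    (hcov : ∀ e ∈ L.E, ∃ i ∈ T, i⁻¹ * e ∈ L.lineCent x) :
    T.card = (L.lineCent x).relIndex L.E := by
  classical
  rw [Subgroup.relIndex, Subgroup.index_eq_card,
    ← Fintype.card_coe T, ← Nat.card_eq_fintype_card]
  refine Nat.card_eq_of_bijective
    (fun i : T => (QuotientGroup.mk ⟨i.1, hT i.1 i.2⟩ : L.E ⧸ (L.lineCent x).subgroupOf L.E))
    ⟨fun i i' h => Subtype.ext (hsep i.1 i.2 i'.1 i'.2
      (Subgroup.mem_subgroupOf.1 (QuotientGroup.eq.1 h))), fun q => ?_⟩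
  induction q using QuotientGroup.induction_on with
  | _ e =>
    obtain ⟨i, hi, he⟩ := hcov e.1 e.2
    exact ⟨⟨i, hi⟩, QuotientGroup.eq.2 (Subgroup.mem_subgroupOf.2 he)⟩

/-- A new hyperbolic pair commuting with the part built so far. -/
structure Pair (S : St L x minus d) where
  a : G
  t : G
  c : K
  ka : K
  c_ne : c ≠ 0
  a_mem : a ∈ L.lineStab x
  t_mem : t ∈ L.E
  a_comm : ∀ g ∈ S.H, Commute a g
  t_comm : ∀ g ∈ S.H, Commute t g
  a_t : Anti V a t
  a_x : a • x = ka • x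
  ka_ne : ka ≠ 0
  t_sq : ∀ v : V, t • t • v = (c * c) • v

/-- The base vector is nonzero. -/
theorem St.ne_zero (S : St L x minus d) : x ≠ 0 := by
  intro h
  have h0 : ∀ w, S.Φ w = 0 := fun w => by
    refine (Submodule.mem_bot K).1 (Submodule.span_le.2 ?_ (S.span w))
    rintro y ⟨g, -, rfl⟩
    show g • x ∈ (⊥ : Submodule K V)
    rw [Submodule.mem_bot, h, smul_zero]
  have := congrFun (S.inj ((h0 (fun _ => 1)).trans (h0 0).symm)) ⟨0, Nat.two_pow_pos d⟩
  exact one_ne_zero this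

namespace Pair

variable {S : St L x minus d} (P : Pair S)

/-- The larger set. -/
def set : Set G := {g | ∃ h ∈ S.H, g = h ∨ g = P.a * h ∨ g = P.t * h ∨ g = P.a * P.t * h}

open Classical in
/-- The larger system of representatives. -/
noncomputable def reps : Finset G := S.T ∪ S.T.image (P.t * ·)

theorem set_le : P.set ⊆ L.E := by
  rintro g ⟨h, hh, rfl | rfl | rfl | rfl⟩
  · exact S.le hh
  · exact mul_mem P.a_mem.1 (S.le hh)
  · exact mul_mem P.t_mem (S.le hh)
  · exact mul_mem (mul_mem P.a_mem.1 P.t_mem) (S.le hh)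

theorem cross (h2 : (2 : K) ≠ 0) {i i' : G} (hi : i ∈ S.H) (hi' : i' ∈ S.H) :
    i⁻¹ * (P.t * i') ∉ L.lineCent x := by
  intro h
  have h1 : Commute P.a (i⁻¹ * (P.t * i')) := L.commute_lineCent h P.a_mem
  refine (Anti.commute_mul (V := V) (P.a_comm i hi).symm.inv_left
    (P.a_t.symm.mul_commute (P.a_comm i' hi').symm)).not_commute h2 h1.symm

theorem reps_card (h2 : (2 : K) ≠ 0) : P.reps.card = 2 ^ (S.m + 1) := by
  classical
  rw [Pair.reps, Finset.card_union_of_disjoint, Finset.card_image_of_injective _ (mul_right_injective _),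
    S.T_card, pow_succ]
  · ring
  · rw [Finset.disjoint_left]
    intro i hi hi'
    obtain ⟨i', hi'', rfl⟩ := Finset.mem_image.1 hi'
    exact P.cross h2 (S.T_mem _ hi) (S.T_mem _ hi'')
      (by rw [inv_mul_cancel]; exact one_mem _)

theorem reps_mem : ∀ i ∈ P.reps, i ∈ P.set := by
  classical
  intro i hi
  rcases Finset.mem_union.1 hi with hi | hi
  · exact ⟨i, S.T_mem i hi, Or.inl rfl⟩
  · obtain ⟨i', hi', rfl⟩ := Finset.mem_image.1 hi
    exact ⟨i', S.T_mem i' hi', Or.inr (Or.inr (Or.inl rfl))⟩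

theorem reps_sep (h2 : (2 : K) ≠ 0) :
    ∀ i ∈ P.reps, ∀ i' ∈ P.reps, i⁻¹ * i' ∈ L.lineCent x → i = i' := by
  classical
  intro i hi i' hi' h
  rcases Finset.mem_union.1 hi with hi | hi <;> rcases Finset.mem_union.1 hi' with hi' | hi'
  · exact S.T_sep i hi i' hi' h
  · obtain ⟨j, hj, rfl⟩ := Finset.mem_image.1 hi'
    exact absurd h (P.cross h2 (S.T_mem i hi) (S.T_mem j hj))
  · obtain ⟨j, hj, rfl⟩ := Finset.mem_image.1 hi
    refine absurd ?_ (P.cross h2 (S.T_mem i' hi') (S.T_mem j hj))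
    have := inv_mem h
    rwa [mul_inv_rev, inv_inv] at this
  · obtain ⟨j, hj, rfl⟩ := Finset.mem_image.1 hi
    obtain ⟨j', hj', rfl⟩ := Finset.mem_image.1 hi'
    rw [mul_inv_rev, mul_assoc, inv_mul_cancel_left] at h
    rw [S.T_sep j hj j' hj' h]

include P in
theorem bound (h2 : (2 : K) ≠ 0) : 2 ^ (S.m + 1) ≤ (L.lineCent x).relIndex L.E := by
  rw [← P.reps_card h2]
  exact card_le_relIndex P.reps (fun i hi => P.set_le (P.reps_mem i hi)) (P.reps_sep h2)

/-- The element as a linear map. -/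
def lmap : V →ₗ[K] V where
  toFun v := P.t • v
  map_add' := smul_add P.t
  map_smul' k v := L.linear _ P.t_mem k v

/-- The doubled coordinates. -/
noncomputable def coord : (Fin (2 ^ (d + 1)) → K) →ₗ[K] V :=
  S.Φ.comp vlo + P.c⁻¹ • (P.lmap.comp (S.Φ.comp vhi))

theorem coord_apply (v : Fin (2 ^ (d + 1)) → K) :
    P.coord v = S.Φ (vlo v) + P.c⁻¹ • P.t • S.Φ (vhi v) := rfl

theorem a_image (w : Fin (2 ^ d) → K) : P.a • S.Φ w = P.ka • S.Φ w := by
  suffices h : ∀ y ∈ Submodule.span K ((fun h : G => h • x) '' S.H), P.a • y = P.ka • y from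
    h _ (S.span w)
  intro y hy
  induction hy using Submodule.span_induction with
  | mem y hy =>
    obtain ⟨h, hh, rfl⟩ := hy
    rw [commute_iff_smul.1 (P.a_comm h hh) x, P.a_x, L.linear h (S.le hh)]
  | zero => rw [smul_zero, smul_zero]
  | add y z _ _ hy hz => rw [smul_add, smul_add, hy, hz]
  | smul k y _ hy => rw [L.linear _ P.a_mem.1, hy, smul_comm]

theorem a_coord (v : Fin (2 ^ (d + 1)) → K) :
    P.a • P.coord v = P.ka • (S.Φ (vlo v) - P.c⁻¹ • P.t • S.Φ (vhi v)) := by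
  rw [coord_apply, smul_add, a_image, L.linear _ P.a_mem.1, P.a_t, a_image, L.linear _ P.t_mem,
    smul_sub, sub_eq_add_neg, smul_neg, smul_comm P.c⁻¹ P.ka]

theorem t_coord (v : Fin (2 ^ (d + 1)) → K) :
    P.t • P.coord v = P.c • (S.Φ (vhi v) + P.c⁻¹ • P.t • S.Φ (vlo v)) := by
  rw [coord_apply, smul_add, L.linear _ P.t_mem, P.t_sq, smul_smul, smul_add, smul_smul,
    mul_inv_cancel₀ P.c_ne, one_smul, inv_mul_cancel_left₀ P.c_ne, add_comm]

theorem coord_injective (h2 : (2 : K) ≠ 0) : Function.Injective P.coord := by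
  rw [← LinearMap.ker_eq_bot, LinearMap.ker_eq_bot']
  intro v hv
  have h1 := P.a_coord v
  rw [hv, smul_zero] at h1
  have h3 := (smul_eq_zero.1 h1.symm).resolve_left P.ka_ne
  rw [coord_apply] at hv
  have hlo : (2 : K) • S.Φ (vlo v) = 0 := by
    rw [two_smul]
    calc S.Φ (vlo v) + S.Φ (vlo v)
        = (S.Φ (vlo v) + P.c⁻¹ • P.t • S.Φ (vhi v)) + (S.Φ (vlo v) - P.c⁻¹ • P.t • S.Φ (vhi v)) := by
          abel
      _ = 0 := by rw [hv, h3, add_zero]
  have hlo' := (smul_eq_zero.1 hlo).resolve_left h2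
  rw [hlo', zero_add] at hv
  have hhi := (smul_eq_zero.1 hv).resolve_left (inv_ne_zero P.c_ne)
  rw [smul_eq_zero_iff_eq] at hhi
  have e1 : vlo v = 0 := S.inj (by rw [hlo', map_zero])
  have e2 : vhi v = 0 := S.inj (by rw [hhi, map_zero])
  exact ext_halves (by rw [e1, map_zero]) (by rw [e2, map_zero])

theorem h_coord {h : G} (hh : h ∈ S.H) {f : (Fin (2 ^ d) → K) → Fin (2 ^ d) → K} {k : K}
    (hf : ∀ v, h • S.Φ v = k • S.Φ (f v)) {v w : Fin (2 ^ (d + 1)) → K}
    (hlo : vlo w = f (vlo v)) (hhi : vhi w = f (vhi v)) : h • P.coord v = k • P.coord w := by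
  rw [coord_apply, coord_apply, hlo, hhi, smul_add, hf, L.linear h (S.le hh),
    ← commute_iff_smul.1 (P.t_comm h hh), hf, L.linear _ P.t_mem, smul_add,
    smul_comm P.c⁻¹ k]

/-- The four new operators over an old one. -/
theorem four (hd : d ≤ 4) (hj0 : ∀ j : Bool, (j = true → minus = true) → j = true → 0 < d)
    {h : G} (hh : h ∈ S.H) {a b : Fin (2 ^ d)} {j : Bool} (hj : j = true → minus = true) {k : K}
    (hk : k ≠ 0) (hv : ∀ v, h • S.Φ v = k • S.Φ (pauli d a b (qif d j v))) :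
    (∃ k' : K, k' ≠ 0 ∧ ∀ v, h • P.coord v = k' • P.coord (pauli (d + 1) (lo a) (lo b) (qif (d + 1) j v))) ∧
    (∃ k' : K, k' ≠ 0 ∧ ∀ v, (P.a * h) • P.coord v =
      k' • P.coord (pauli (d + 1) (lo a) (hi b) (qif (d + 1) j v))) ∧
    (∃ k' : K, k' ≠ 0 ∧ ∀ v, (P.t * h) • P.coord v =
      k' • P.coord (pauli (d + 1) (hi a) (lo b) (qif (d + 1) j v))) ∧
    ∃ k' : K, k' ≠ 0 ∧ ∀ v, (P.a * P.t * h) • P.coord v =
      k' • P.coord (pauli (d + 1) (hi a) (hi b) (qif (d + 1) j v)) := by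
  have base : ∀ v, h • P.coord v =
      k • P.coord (pauli (d + 1) (lo a) (lo b) (qif (d + 1) j v)) := fun v => by
    have e := pauli_lo_lo hd a b (qif (d + 1) j v)
    have q := qif_halves hd j (hj0 j hj) v
    exact P.h_coord hh (f := fun w => pauli d a b (qif d j w)) hv
      (by rw [e.1, q.1]) (by rw [e.2, q.2])
  refine ⟨⟨k, hk, base⟩, ⟨k * P.ka, mul_ne_zero hk P.ka_ne, fun v => ?_⟩,
    ⟨k * P.c, mul_ne_zero hk P.c_ne, fun v => ?_⟩,
    ⟨-(k * P.c * P.ka), neg_ne_zero.2 (mul_ne_zero (mul_ne_zero hk P.c_ne) P.ka_ne), fun v => ?_⟩⟩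
  all_goals
    have e0 := pauli_lo_lo hd a b (qif (d + 1) j v)
  · have e := pauli_lo_hi hd a b (qif (d + 1) j v)
    rw [mul_smul, base, L.linear _ P.a_mem.1, a_coord, coord_apply, e.1, e.2, e0.1, e0.2, map_neg,
      smul_neg, smul_neg, smul_smul k P.ka, sub_eq_add_neg]
  · have e := pauli_hi_lo hd a b (qif (d + 1) j v)
    rw [mul_smul, base, L.linear _ P.t_mem, t_coord, coord_apply, e.1, e.2, e0.1, e0.2,
      smul_smul k P.c]
  · have e := pauli_hi_hi hd a b (qif (d + 1) j v)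
    rw [mul_smul, mul_smul, base, L.linear _ P.t_mem, L.linear _ P.a_mem.1, t_coord,
      L.linear _ P.a_mem.1, smul_smul k P.c, smul_add, a_image, L.linear _ P.a_mem.1, P.a_t, a_image,
      coord_apply, e.1, e.2, e0.1, e0.2, map_neg, L.linear _ P.t_mem, smul_neg, smul_comm P.c⁻¹ P.ka]
    simp only [smul_add, smul_neg, smul_smul, neg_smul]
    generalize P.t • S.Φ (pauli d a b (vlo (qif (d + 1) j v))) = X,
      S.Φ (pauli d a b (vhi (qif (d + 1) j v))) = Y
    module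

theorem a_commute : ∀ g ∈ S.H, Commute g P.a := fun g hg => (P.a_comm g hg).symm

theorem t_commute : ∀ g ∈ S.H, Commute g P.t := fun g hg => (P.t_comm g hg).symm

theorem commute_set {z : G} (ha : Commute z P.a) (ht : Commute z P.t) (hH : ∀ g ∈ S.H, Commute z g) :
    ∀ g ∈ P.set, Commute z g := by
  rintro g ⟨h, hh, rfl | rfl | rfl | rfl⟩
  · exact hH _ hh
  · exact ha.mul_right (hH h hh)
  · exact ht.mul_right (hH h hh)
  · exact (ha.mul_right ht).mul_right (hH h hh)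

theorem reps_cover : ∀ g ∈ P.set, ∃ i ∈ P.reps, i⁻¹ * g ∈ L.lineCent x := by
  classical
  have hx : x ≠ 0 := S.ne_zero
  have haR : P.a ∈ L.lineCent x := L.lineStab_le_lineCent hx P.a_mem
  -- the conjugate of the new stabiliser element
  have hconj : P.t⁻¹ * P.a * P.t ∈ L.lineStab x := by
    have e : P.t⁻¹ * P.a * P.t = (P.t⁻¹ * P.a * P.t * P.a⁻¹) * P.a := by group
    rw [e]
    refine mul_mem (L.U_le_lineStab x ?_) P.a_mem
    simpa [mul_assoc] using L.commutator_mem _ (inv_mem P.t_mem) _ P.a_mem.1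
  intro g hg
  obtain ⟨h, hh, hg⟩ := hg
  obtain ⟨i, hi, hih⟩ := S.T_cover h hh
  have hin : i ∈ P.reps := Finset.mem_union_left _ hi
  have hitn : P.t * i ∈ P.reps := Finset.mem_union_right _ (Finset.mem_image_of_mem _ hi)
  rcases hg with rfl | rfl | rfl | rfl
  · exact ⟨i, hin, hih⟩
  · refine ⟨i, hin, ?_⟩
    rw [← mul_assoc, ((P.a_commute i (S.T_mem i hi)).inv_left).eq, mul_assoc]
    exact mul_mem haR hih
  · refine ⟨P.t * i, hitn, ?_⟩
    rw [mul_inv_rev, mul_assoc, inv_mul_cancel_left]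
    exact hih
  · refine ⟨P.t * i, hitn, ?_⟩
    have hc : Commute i⁻¹ (P.t⁻¹ * P.a * P.t) :=
      (((P.t_commute i (S.T_mem i hi)).inv_right.mul_right (P.a_commute i (S.T_mem i hi))).mul_right
        (P.t_commute i (S.T_mem i hi))).inv_left
    have e : (P.t * i)⁻¹ * (P.a * P.t * h) = i⁻¹ * (P.t⁻¹ * P.a * P.t) * h := by group
    rw [e, hc.eq, mul_assoc]
    exact mul_mem (L.lineStab_le_lineCent hx hconj) hih

/-- The larger coordinates. -/
noncomputable def extend (hd : d ≤ 4) (h2 : (2 : K) ≠ 0) (hexp : ∀ e ∈ L.E, e * e ∈ L.U) :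
    St L x minus (d + 1) where
  Φ := P.coord
  inj := P.coord_injective h2
  pos := fun _ => Nat.succ_pos d
  H := P.set
  le := P.set_le
  one := ⟨1, S.one, Or.inl rfl⟩
  mem := by
    intro A B j hpar hj
    have hpos : ∀ j : Bool, (j = true → minus = true) → j = true → 0 < d :=
      fun _ h1 h2 => S.pos (h1 h2)
    have hev : minus = true → 2 ^ d % 2 = 0 := fun hm => by
      obtain ⟨k, rfl⟩ := Nat.exists_eq_succ_of_ne_zero (S.pos hm).ne'
      rw [pow_succ]; omega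
    rcases lo_or_hi A with ⟨a, rfl⟩ | ⟨a, rfl⟩ <;> rcases lo_or_hi B with ⟨b, rfl⟩ | ⟨b, rfl⟩ <;>
      (have hab : minus = true → a.1 % 2 = b.1 % 2 := fun hm => by
        have h1 := hpar hm
        have h2 := hev hm
        simp only [lo, hi] at h1
        omega) <;>
      obtain ⟨h, hh, k, hk, hv⟩ := S.mem a b j hab hj
    · exact ⟨h, ⟨h, hh, Or.inl rfl⟩, (P.four hd hpos hh hj hk hv).1⟩
    · exact ⟨_, ⟨h, hh, Or.inr (Or.inl rfl)⟩, (P.four hd hpos hh hj hk hv).2.1⟩
    · exact ⟨_, ⟨h, hh, Or.inr (Or.inr (Or.inl rfl))⟩, (P.four hd hpos hh hj hk hv).2.2.1⟩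
    · exact ⟨_, ⟨h, hh, Or.inr (Or.inr (Or.inr rfl))⟩, (P.four hd hpos hh hj hk hv).2.2.2⟩
  rep := by
    have hpos : ∀ j : Bool, (j = true → minus = true) → j = true → 0 < d :=
      fun _ h1 h2 => S.pos (h1 h2)
    intro g hg
    obtain ⟨h, hh, hg⟩ := hg
    obtain ⟨a, b, j, hab, hj, k, hk, hv⟩ := S.rep h hh
    have hev : minus = true → 2 ^ d % 2 = 0 := fun hm => by
      obtain ⟨i, rfl⟩ := Nat.exists_eq_succ_of_ne_zero (S.pos hm).ne'
      rw [pow_succ]; omega
    have hpar : ∀ (f f' : Fin (2 ^ d) → Fin (2 ^ (d + 1))), (f = lo ∨ f = hi) → (f' = lo ∨ f' = hi) →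
        minus = true → (f a).1 % 2 = (f' b).1 % 2 := by
      intro f f' hf hf' hm
      have h1 := hab hm
      have h2 := hev hm
      rcases hf with rfl | rfl <;> rcases hf' with rfl | rfl <;> simp only [lo, hi] <;> omega
    have hfour := P.four hd hpos hh hj hk hv
    rcases hg with rfl | rfl | rfl | rfl
    · exact ⟨lo a, lo b, j, hpar lo lo (Or.inl rfl) (Or.inl rfl), hj, hfour.1⟩
    · exact ⟨lo a, hi b, j, hpar lo hi (Or.inl rfl) (Or.inr rfl), hj, hfour.2.1⟩
    · exact ⟨hi a, lo b, j, hpar hi lo (Or.inr rfl) (Or.inl rfl), hj, hfour.2.2.1⟩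
    · exact ⟨hi a, hi b, j, hpar hi hi (Or.inr rfl) (Or.inr rfl), hj, hfour.2.2.2⟩
  span := fun v => by
    rw [coord_apply]
    refine Submodule.add_mem _ (Submodule.span_mono ?_ (S.span _)) (Submodule.smul_mem _ _ ?_)
    · rintro y ⟨h, hh, rfl⟩
      exact ⟨h, ⟨h, hh, Or.inl rfl⟩, rfl⟩
    · suffices h : ∀ y ∈ Submodule.span K ((fun h : G => h • x) '' S.H),
          P.t • y ∈ Submodule.span K ((fun h : G => h • x) '' P.set) from h _ (S.span _)
      intro y hy
      induction hy using Submodule.span_induction with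
      | mem y hy =>
        obtain ⟨h, hh, rfl⟩ := hy
        refine Submodule.subset_span ⟨P.t * h, ⟨h, hh, Or.inr (Or.inr (Or.inl rfl))⟩, ?_⟩
        exact mul_smul _ _ _
      | zero => rw [smul_zero]; exact zero_mem _
      | add y z _ _ hy hz => rw [smul_add]; exact Submodule.add_mem _ hy hz
      | smul k y _ hy => rw [L.linear _ P.t_mem]; exact Submodule.smul_mem _ _ hy
  decomp := by
    intro e he
    obtain ⟨h, hh, hz⟩ := S.decomp e he
    have hzE : e * h⁻¹ ∈ L.E := mul_mem he (inv_mem (S.le hh))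
    have key : ∀ g : G, Commute (e * h⁻¹ * g⁻¹) P.a → Commute (e * h⁻¹ * g⁻¹) P.t →
        (∀ k ∈ S.H, Commute g k) →
        ∀ k ∈ P.set, Commute (e * (g * h)⁻¹) k := by
      intro g ha ht hg
      have e1 : e * (g * h)⁻¹ = e * h⁻¹ * g⁻¹ := by group
      rw [e1]
      exact P.commute_set ha ht fun k hk => (hz k hk).mul_left (hg k hk).inv_left
    have hta : Anti V P.t P.a := P.a_t.symm
    rcases commute_or_anti L hexp hzE P.a_mem.1 with h1 | h1 <;>
      rcases commute_or_anti L hexp hzE P.t_mem with h2' | h2'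
    · refine ⟨h, ⟨h, hh, Or.inl rfl⟩, fun k hk => ?_⟩
      have := key 1 (by simpa using h1) (by simpa using h2') (fun k _ => Commute.one_left k) k hk
      rwa [one_mul] at this
    · exact ⟨P.a * h, ⟨h, hh, Or.inr (Or.inl rfl)⟩, key P.a (h1.mul_left (Commute.refl _).inv_left)
        (Anti.mul_anti h2' P.a_t.inv_left) P.a_comm⟩
    · exact ⟨P.t * h, ⟨h, hh, Or.inr (Or.inr (Or.inl rfl))⟩, key P.t (Anti.mul_anti h1 hta.inv_left)
        (h2'.mul_left (Commute.refl _).inv_left) P.t_comm⟩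
    · exact ⟨P.a * P.t * h, ⟨h, hh, Or.inr (Or.inr (Or.inr rfl))⟩, key (P.a * P.t)
        (Anti.mul_anti h1 (Anti.commute_mul (Commute.refl P.a) hta).inv_left)
        (Anti.mul_anti h2' (P.a_t.mul_commute (Commute.refl P.t)).inv_left)
        fun k hk => (P.a_comm k hk).mul_left (P.t_comm k hk)⟩
  decompA := by
    intro e he
    obtain ⟨h, hh, hhA, hz⟩ := S.decompA e he
    have hzE : e * h⁻¹ ∈ L.E := mul_mem he.1 (inv_mem (S.le hh))
    have hza : Commute (e * h⁻¹) P.a := by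
      exact L.lineStab_comm S.ne_zero (show e * h⁻¹ ∈ L.lineStab x from mul_mem he (inv_mem hhA)) P.a_mem
    rcases commute_or_anti L hexp hzE P.t_mem with h1 | h1
    · exact ⟨h, ⟨h, hh, Or.inl rfl⟩, hhA, P.commute_set hza h1 hz⟩
    · refine ⟨P.a * h, ⟨h, hh, Or.inr (Or.inl rfl)⟩, mul_mem P.a_mem hhA, ?_⟩
      rw [show e * (P.a * h)⁻¹ = e * h⁻¹ * P.a⁻¹ by group]
      exact P.commute_set (hza.mul_left (Commute.refl _).inv_left) (Anti.mul_anti h1 P.a_t.inv_left)
        fun k hk => (hz k hk).mul_left (P.a_comm k hk).inv_left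
  key := fun z hz h => S.key z hz fun g hg => h g ⟨g, hg, Or.inl rfl⟩
  m := S.m + 1
  m_eq := by have := S.m_eq; omega
  T := P.reps
  T_card := P.reps_card h2
  T_mem := P.reps_mem
  T_sep := P.reps_sep h2
  T_cover := P.reps_cover

end Pair

/-- A part of the layer either is all of it or extends by a pair. -/
theorem pair_or_full (S : St L x minus d) (hexp : ∀ e ∈ L.E, e * e ∈ L.U) (hx : x ≠ 0)
    (h2 : (2 : K) ≠ 0)
    (hsq : ∀ e ∈ L.E, ∀ l : K, (∀ v : V, e • e • v = l • v) → IsSquare l ∨ IsSquare (-l)) :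
    Nonempty (Pair S) ∨ ∀ e ∈ L.E, ∃ h ∈ S.H, e * h⁻¹ ∈ L.U := by
  by_cases hCA : ∀ a ∈ L.lineStab x, (∀ g ∈ S.H, Commute a g) → a ∈ L.U
  · refine Or.inr fun e he => ?_
    obtain ⟨h, hh, hz⟩ := S.decomp e he
    have hzE : e * h⁻¹ ∈ L.E := mul_mem he (inv_mem (S.le hh))
    refine ⟨h, hh, hCA _ (S.key (e * h⁻¹) ⟨hzE,
      Subgroup.mem_centralizer_iff.2 fun α hα => ?_⟩ hz) hz⟩
    obtain ⟨h', hh', hh'A, hz'⟩ := S.decompA α hα
    have hu := hCA _ (mul_mem hα (inv_mem hh'A)) hz'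
    have h1 : Commute (α * h'⁻¹) (e * h⁻¹) :=
      L.commute_U hu (mul_mem he (inv_mem (S.le hh)))
    have h3 := h1.mul_left (hz h' hh').symm
    rw [inv_mul_cancel_right] at h3
    exact h3.eq
  left
  push Not at hCA
  obtain ⟨a, ha, hac, haU⟩ := hCA
  obtain ⟨y, hy, hay⟩ : ∃ y ∈ L.E, ¬ Commute a y := by
    by_contra h
    push Not at h
    exact haU (L.center_le a ha.1 fun y hy => (h y hy).eq)
  obtain ⟨h, hh, hz⟩ := S.decomp y hy
  set z := y * h⁻¹ with hzdef
  have hzE : z ∈ L.E := mul_mem hy (inv_mem (S.le hh))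
  have haz : Anti V a z := (commute_or_anti L hexp ha.1 hzE).resolve_left fun hc => hay (by
    have := hc.mul_right (hac h hh)
    rwa [hzdef, inv_mul_cancel_right] at this)
  obtain ⟨k, hk⟩ := ha.2
  have hk0 : k ≠ 0 := fun h0 => hx (by rwa [h0, zero_smul, smul_eq_zero_iff_eq] at hk)
  obtain ⟨l, hl0, hl⟩ := exists_square_scalar L hexp hzE
  rcases hsq z hzE l hl with ⟨c, hc⟩ | ⟨c, hc⟩
  · exact ⟨{ a := a, t := z, c := c, ka := k, c_ne := fun h0 => hl0 (by rw [hc, h0, mul_zero]),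
             a_mem := ha, t_mem := hzE, a_comm := hac, t_comm := hz, a_t := haz, a_x := hk,
             ka_ne := hk0, t_sq := fun v => by rw [hl, hc] }⟩
  · obtain ⟨μ, -, hμ⟩ := exists_square_scalar L hexp ha.1
    have hμk : μ = k * k := smul_left_injective K hx (show μ • x = (k * k) • x by
      rw [← hμ, hk, L.linear a ha.1, hk, smul_smul])
    refine ⟨{ a := a, t := z * a, c := c * k, ka := k
              c_ne := mul_ne_zero (fun h0 => hl0 (by rwa [h0, mul_zero, neg_eq_zero] at hc)) hk0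
              a_mem := ha, t_mem := mul_mem hzE ha.1, a_comm := hac
              t_comm := fun g hg => (hz g hg).mul_left (hac g hg)
              a_t := (haz.symm.mul_commute (Commute.refl a)).symm
              a_x := hk, ka_ne := hk0, t_sq := fun v => ?_ }⟩
    rw [mul_smul z a, mul_smul z a, haz (a • v), smul_neg, hl, hμ, smul_smul, ← neg_smul, hμk,
      ← neg_mul, hc]
    ring_nf

/-- Coordinates for a part grow to coordinates for all. -/
theorem exists_model {n : ℕ} (S : St L x minus d) (hexp : ∀ e ∈ L.E, e * e ∈ L.U) (hx : x ≠ 0)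
    (h2 : (2 : K) ≠ 0)
    (hsq : ∀ e ∈ L.E, ∀ l : K, (∀ v : V, e • e • v = l • v) → IsSquare l ∨ IsSquare (-l))
    (hn : (L.lineCent x).relIndex L.E = 2 ^ n) (hn4 : n + (if minus then 1 else 0) ≤ 5) :
    Nonempty (Model L ⟨n + (if minus then 1 else 0), minus⟩) := by
  induction hg : n - S.m using Nat.strong_induction_on generalizing d with
  | _ g ih =>
  rcases pair_or_full S hexp hx h2 hsq with ⟨⟨P⟩⟩ | hfull
  · have hb := P.bound h2
    rw [hn] at hb
    have hmn : S.m + 1 ≤ n := (Nat.pow_le_pow_iff_right (by norm_num)).1 hb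
    have hd : d ≤ 4 := by
      have := S.m_eq
      omega
    exact ih (n - (S.m + 1)) (by omega) (P.extend hd h2 hexp) rfl
  · have hmn : S.m = n := by
      refine Nat.pow_right_injective (le_refl 2) (show 2 ^ S.m = 2 ^ n from ?_)
      rw [← S.T_card, ← hn]
      refine card_eq_relIndex S.T (fun i hi => S.le (S.T_mem i hi)) S.T_sep fun e he => ?_
      obtain ⟨h, hh, hu⟩ := hfull e he
      obtain ⟨i, hi, hih⟩ := S.T_cover h hh
      refine ⟨i, hi, ?_⟩
      rw [show i⁻¹ * e = i⁻¹ * (e * h⁻¹) * h by group,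
        ← L.commute_U hu (inv_mem (S.le (S.T_mem i hi))), mul_assoc]
      exact mul_mem (L.lineStab_le_lineCent hx (L.U_le_lineStab x hu)) hih
    have hdn : n + (if minus then 1 else 0) = d := hmn ▸ S.m_eq
    rw [hdn]
    exact ⟨{
      Φ := S.Φ
      injective := S.inj
      pauli_mem := fun a b hab => by
        obtain ⟨h, hh, k, hk, hv⟩ := S.mem a b false hab (fun h => Bool.noConfusion h)
        exact ⟨h, S.le hh, k, hk, fun v => by rw [hv, qif_false]⟩
      quat_mem := fun hm hd => by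
        obtain ⟨h, hh, k, hk, hv⟩ := S.mem ⟨0, Nat.two_pow_pos d⟩ ⟨0, Nat.two_pow_pos d⟩ true
          (fun _ => rfl) (fun _ => hm)
        exact ⟨h, S.le hh, k, hk, fun v => by rw [hv, qif_true hd, pauli_zero]⟩
      surjective := fun e he => by
        obtain ⟨h, hh, hu⟩ := hfull e he
        obtain ⟨a, b, j, hab, hj, k, -, hv⟩ := S.rep h hh
        refine ⟨a, b, j, (L.ι ⟨_, hu⟩ : K) * k, hab, hj, fun v => ?_⟩
        show e • S.Φ v = _ • S.Φ (pauli d a b (qif d j v))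
        have e1 : e • S.Φ v = (e * h⁻¹) • h • S.Φ v := by rw [← mul_smul, inv_mul_cancel_right]
        rw [e1, hv, L.smul_ι ⟨_, hu⟩, smul_smul] }⟩

end Cfsg.Agent.H67.BaseTwo
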