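import Cfsg.Agent.H67.BaseTwo.Model

/-! The coordinates to start from, and the models of small layers. -/

set_option autoImplicit false
set_option linter.unusedSectionVars false
set_option linter.style.haveILetI false

namespace Cfsg.Agent.H67.BaseTwo

open Cfsg.Agent.H86.BaseThree
open Cfsg.Agent.H86.BaseTwo (pauli quat pairing Shape Model)

universe u

variable {K : Type u} [Field K]

theorem pairing_one_one : pairing 1 1 = 1 := by decide +kernel

theorem pairing_one_zero : pairing 1 0 = 0 := by decide +kernel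

/-- The operator of order four on two coordinates. -/
theorem pauli_turn (v : Fin (2 ^ 1) → K) :
    pauli 1 ⟨1, by norm_num⟩ ⟨1, by norm_num⟩ v ⟨0, by norm_num⟩ = -v ⟨1, by norm_num⟩ ∧
      pauli 1 ⟨1, by norm_num⟩ ⟨1, by norm_num⟩ v ⟨1, by norm_num⟩ = v ⟨0, by norm_num⟩ := by
  constructor
  · show (-1 : K) ^ pairing 1 1 * v ⟨1, by norm_num⟩ = _
    rw [pairing_one_one, pow_one (-1 : K), neg_one_mul]
  · show (-1 : K) ^ pairing 1 0 * v ⟨0, by norm_num⟩ = _
    rw [pairing_one_zero, pow_zero, one_mul]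

/-- The quaternion operator on two coordinates. -/
theorem quat_turn (h : 0 < 1) (v : Fin (2 ^ 1) → K) :
    quat 1 h v ⟨0, by norm_num⟩ = v ⟨1, by norm_num⟩ + v ⟨0, by norm_num⟩ ∧
      quat 1 h v ⟨1, by norm_num⟩ = v ⟨0, by norm_num⟩ - v ⟨1, by norm_num⟩ := by
  constructor
  · show v ⟨1, by norm_num⟩ + (-1 : K) ^ 0 * v ⟨0, by norm_num⟩ = _
    rw [pow_zero, one_mul]
  · show v ⟨0, by norm_num⟩ + (-1 : K) ^ 1 * v ⟨1, by norm_num⟩ = _
    rw [pow_one (-1 : K), neg_one_mul, sub_eq_add_neg]

theorem cases_two (a : Fin (2 ^ 1)) : a = ⟨0, by norm_num⟩ ∨ a = ⟨1, by norm_num⟩ := by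
  have := a.2
  rcases Nat.eq_zero_or_pos a.1 with h | h
  · exact Or.inl (Fin.ext h)
  · exact Or.inr (Fin.ext (by simp only; omega))

variable {G : Type u} [Group G] [Finite G] {V : Type u} [AddCommGroup V] [DistribMulAction G V]
  [Finite V] [Nontrivial V] [FaithfulSMul G V] [Finite K] [Module K V]

theorem two_ne_zero_of_card (hq : Nat.card K % 2 = 1) : (2 : K) ≠ 0 := by
  intro h
  haveI := Fintype.ofFinite K
  have h2 : ringChar K = 2 := by
    have := ringChar.dvd (R := K) (x := 2) (by exact_mod_cast h)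
    rcases Nat.prime_two.eq_one_or_self_of_dvd _ this with h1 | h1
    · exact absurd h1 CharP.ringChar_ne_one
    · exact h1
  have := FiniteField.even_card_of_char_two h2
  rw [Nat.card_eq_fintype_card] at hq
  omega

theorem sign_of_card_three (hq : Nat.card K = 3) (k : K) : k = 0 ∨ k = 1 ∨ k = -1 := by
  haveI := Fintype.ofFinite K
  rcases eq_or_ne k 0 with h | h
  · exact Or.inl h
  right
  have := FiniteField.pow_card_sub_one_eq_one k h
  rw [← Nat.card_eq_fintype_card, hq] at this
  exact mul_self_eq_one_iff.1 ((sq k).symm.trans this)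

/-- The start, when the centraliser of the line stabiliser fixes the line. -/
noncomputable def startPlus (L : Layer G V K) {x : V} (hx : x ≠ 0)
    (hsc : ∀ r ∈ L.lineCent x, ∃ k : K, r • x = k • x) : St L x false 0 where
  Φ := LinearMap.smulRight (LinearMap.proj (R := K) (φ := fun _ : Fin (2 ^ 0) => K) ⟨0, by norm_num⟩) x
  inj := fun v w h => funext fun i => by
    rw [show i = ⟨0, by norm_num⟩ from Fin.ext (by have := i.2; simp only [pow_zero] at this; simp only; omega)]
    exact smul_left_injective K hx h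
  pos := fun h => Bool.noConfusion h
  H := {1}
  le := fun h hh => by
    obtain rfl : h = 1 := hh
    exact one_mem _
  one := rfl
  mem := by
    intro a b j _ hj
    refine ⟨1, rfl, 1, one_ne_zero, fun v => ?_⟩
    obtain rfl : a = ⟨0, by norm_num⟩ := Fin.ext (by have := a.2; simp only [pow_zero] at this; simp only; omega)
    obtain rfl : b = ⟨0, by norm_num⟩ := Fin.ext (by have := b.2; simp only [pow_zero] at this; simp only; omega)
    cases j with
    | true => exact Bool.noConfusion (hj rfl)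
    | false => rw [one_smul, one_smul, qif_false, pauli_zero]
  rep := by
    intro h hh
    obtain rfl : h = 1 := hh
    exact ⟨⟨0, by norm_num⟩, ⟨0, by norm_num⟩, false, fun _ => rfl, fun h => Bool.noConfusion h,
      1, one_ne_zero, fun v => by rw [one_smul, one_smul, qif_false, pauli_zero]⟩
  span := fun v => by
    refine Submodule.smul_mem _ _ (Submodule.subset_span ⟨1, rfl, ?_⟩)
    exact one_smul G x
  decomp := fun e _ => ⟨1, rfl, fun g hg => by
    obtain rfl : g = 1 := hg
    exact Commute.one_right _⟩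
  decompA := fun e _ => ⟨1, rfl, one_mem _, fun g hg => by
    obtain rfl : g = 1 := hg
    exact Commute.one_right _⟩
  key := fun z hz _ => ⟨hz.1, hsc z hz⟩
  m := 0
  m_eq := rfl
  T := {1}
  T_card := rfl
  T_mem := fun i hi => Finset.mem_singleton.1 hi
  T_sep := fun i hi i' hi' _ => (Finset.mem_singleton.1 hi).trans (Finset.mem_singleton.1 hi').symm
  T_cover := fun h hh => ⟨1, Finset.mem_singleton_self 1, by
    obtain rfl : h = 1 := hh
    rw [inv_one, one_mul]
    exact one_mem _⟩

/-- The start, when the centraliser of the line stabiliser turns the line in a quaternion plane. -/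
theorem exists_startMinus (L : Layer G V K) (F : Frame L) (hq : Nat.card K = 3)
    (hexp : ∀ e ∈ L.E, e * e ∈ L.U)
    (hns : ¬ ∀ r ∈ L.lineCent F.x, ∃ k : K, r • F.x = k • F.x) :
    Nonempty (St L F.x true 1) := by
  classical
  obtain ⟨r, hr, hry, -, -, hspan, -, hnsq, -⟩ := F.split.resolve_left hns
  have hx := F.ne_zero
  set x := F.x with hxdef
  have h2 : (2 : K) ≠ 0 := two_ne_zero_of_card (by rw [hq])
  have hrr : ∀ v : V, r • r • v = -v := by
    obtain ⟨μ, hμ0, hμ⟩ := exists_square_scalar L hexp hr.1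
    rcases sign_of_card_three hq μ with h | h | h
    · exact absurd h hμ0
    · exact absurd IsSquare.one (hnsq 1 (by rw [← h]; exact hμ x))
    · exact fun v => by rw [hμ, h, neg_one_smul]
  have hrA : r ∉ L.lineStab x := fun h => by
    obtain ⟨k, hk⟩ := h.2
    exact hry k hk
  obtain ⟨s₀, hs₀, hsr₀⟩ : ∃ s ∈ L.lineCent x, Anti V s r := by
    by_contra hcon
    push Not at hcon
    refine hrA (L.mem_of_commute_centralizer (L.U_le_lineStab x) (L.lineStab_le x) hr.1 fun s hs hsA => ?_)
    have hsR : s ∈ L.lineCent x := ⟨hs, Subgroup.mem_centralizer_iff.2 hsA⟩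
    exact ((commute_or_anti L hexp hs hr.1).resolve_right (hcon s hsR)).eq
  obtain ⟨s, hs, hsr, c, hc0, hsx⟩ : ∃ s ∈ L.lineCent x, Anti V s r ∧
      ∃ c : K, c ≠ 0 ∧ s • x = c • x + c • r • x := by
    obtain ⟨α, β, h⟩ := hspan s₀ hs₀
    have hβ : β ≠ 0 := by
      rintro rfl
      rw [zero_smul, add_zero] at h
      exact hsr₀.not_commute h2 (L.commute_lineCent hr ⟨hs₀.1, α, h⟩)
    have hα : α ≠ 0 := by
      rintro rfl
      rw [zero_smul, zero_add] at h
      refine hsr₀.not_commute h2 ?_
      have hmem : r * s₀ ∈ L.lineStab x := ⟨mul_mem hr.1 hs₀.1, -β, by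
        rw [mul_smul, h, L.linear r hr.1, hrr, smul_neg, neg_smul]⟩
      have h1 : r * s₀ * r = r * (r * s₀) := L.commute_lineCent hr hmem
      rw [mul_assoc] at h1
      exact mul_left_cancel h1
    rcases (sign_of_card_three hq α).resolve_left hα with rfl | rfl <;>
      rcases (sign_of_card_three hq β).resolve_left hβ with rfl | rfl
    · exact ⟨s₀, hs₀, hsr₀, 1, one_ne_zero, h⟩
    · refine ⟨r * s₀, mul_mem hr hs₀, Anti.commute_mul (Commute.refl r) hsr₀, 1, one_ne_zero, ?_⟩
      rw [mul_smul, h, smul_add, L.linear r hr.1, L.linear r hr.1, hrr]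
      simp only [one_smul, neg_smul, neg_neg]
      exact add_comm _ _
    · refine ⟨r * s₀, mul_mem hr hs₀, Anti.commute_mul (Commute.refl r) hsr₀, -1, neg_ne_zero.2 one_ne_zero, ?_⟩
      rw [mul_smul, h, smul_add, L.linear r hr.1, L.linear r hr.1, hrr]
      simp only [one_smul, neg_smul]
      exact add_comm _ _
    · exact ⟨s₀, hs₀, hsr₀, -1, neg_ne_zero.2 one_ne_zero, h⟩
  have hsrx : s • r • x = c • x - c • r • x := by
    rw [hsr, hsx, smul_add, L.linear r hr.1, L.linear r hr.1, hrr, smul_neg]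
    abel
  let Φ : (Fin (2 ^ 1) → K) →ₗ[K] V :=
    LinearMap.smulRight (LinearMap.proj (R := K) (φ := fun _ : Fin (2 ^ 1) => K) ⟨0, by norm_num⟩) x +
      LinearMap.smulRight (LinearMap.proj (R := K) (φ := fun _ : Fin (2 ^ 1) => K) ⟨1, by norm_num⟩) (r • x)
  have hΦ : ∀ v, Φ v = v ⟨0, by norm_num⟩ • x + v ⟨1, by norm_num⟩ • r • x := fun _ => rfl
  have hrΦ : ∀ v, r • Φ v = Φ (pauli 1 ⟨1, by norm_num⟩ ⟨1, by norm_num⟩ v) := fun v => by
    rw [hΦ, hΦ, (pauli_turn v).1, (pauli_turn v).2, smul_add, L.linear r hr.1, L.linear r hr.1, hrr,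
      smul_neg, neg_smul]
    exact add_comm _ _
  have hsΦ : ∀ v, s • Φ v = c • Φ (quat 1 one_pos v) := fun v => by
    rw [hΦ, hΦ, (quat_turn one_pos v).1, (quat_turn one_pos v).2, smul_add, L.linear s hs.1,
      L.linear s hs.1, hsx, hsrx]
    generalize r • x = y
    module
  have hcomm : ∀ z : G, Commute z r → Commute z s →
      ∀ g ∈ ({1, r, s, r * s} : Set G), Commute z g := by
    intro z h1 h2' g hg
    rcases hg with rfl | rfl | rfl | rfl
    · exact Commute.one_right _
    · exact h1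
    · exact h2'
    · exact h1.mul_right h2'
  refine ⟨{
    Φ := Φ
    inj := ?_
    pos := fun _ => one_pos
    H := {1, r, s, r * s}
    le := ?_
    one := Or.inl rfl
    mem := ?_
    rep := ?_
    span := ?_
    decomp := ?_
    decompA := ?_
    key := ?_
    m := 0
    m_eq := rfl
    T := {1}
    T_card := rfl
    T_mem := fun i hi => Or.inl (Finset.mem_singleton.1 hi)
    T_sep := fun i hi i' hi' _ => (Finset.mem_singleton.1 hi).trans (Finset.mem_singleton.1 hi').symm
    T_cover := ?_ }⟩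
  · rw [← LinearMap.ker_eq_bot, LinearMap.ker_eq_bot']
    intro v hv
    rw [hΦ] at hv
    have h1 : v ⟨1, by norm_num⟩ = 0 := by
      by_contra hne
      refine hry (-((v ⟨1, by norm_num⟩)⁻¹ * v ⟨0, by norm_num⟩)) ?_
      have h' := congrArg ((v ⟨1, by norm_num⟩)⁻¹ • ·) hv
      simp only [smul_add, smul_smul, inv_mul_cancel₀ hne, one_smul, smul_zero] at h'
      rw [neg_smul]
      exact eq_neg_of_add_eq_zero_right h'
    rw [h1, zero_smul, add_zero] at hv
    have h0 := (smul_eq_zero.1 hv).resolve_right hx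
    funext i
    rcases cases_two i with rfl | rfl
    · exact h0
    · exact h1
  · rintro g (rfl | rfl | rfl | rfl)
    exacts [one_mem L.E, hr.1, hs.1, mul_mem hr.1 hs.1]
  · intro a b j hab hj
    have hab' := hab rfl
    rcases cases_two a with rfl | rfl <;> rcases cases_two b with rfl | rfl <;>
      first | (simp only at hab'; omega) | cases j
    · exact ⟨1, Or.inl rfl, 1, one_ne_zero, fun v => by rw [one_smul, one_smul, qif_false, pauli_zero]⟩
    · exact ⟨s, Or.inr (Or.inr (Or.inl rfl)), c, hc0, fun v => by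
        rw [hsΦ, qif_true one_pos, pauli_zero]⟩
    · exact ⟨r, Or.inr (Or.inl rfl), 1, one_ne_zero, fun v => by rw [one_smul, qif_false, hrΦ]⟩
    · exact ⟨r * s, Or.inr (Or.inr (Or.inr rfl)), c, hc0, fun v => by
        rw [mul_smul, hsΦ, L.linear r hr.1, hrΦ, qif_true one_pos]⟩
  · rintro g (rfl | rfl | rfl | rfl)
    · exact ⟨⟨0, by norm_num⟩, ⟨0, by norm_num⟩, false, fun _ => rfl, fun h => Bool.noConfusion h,
        1, one_ne_zero, fun v => by rw [one_smul, one_smul, qif_false, pauli_zero]⟩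
    · exact ⟨⟨1, by norm_num⟩, ⟨1, by norm_num⟩, false, fun _ => rfl, fun h => Bool.noConfusion h,
        1, one_ne_zero, fun v => by rw [one_smul, qif_false, hrΦ]⟩
    · exact ⟨⟨0, by norm_num⟩, ⟨0, by norm_num⟩, true, fun _ => rfl, fun _ => rfl,
        c, hc0, fun v => by rw [hsΦ, qif_true one_pos, pauli_zero]⟩
    · exact ⟨⟨1, by norm_num⟩, ⟨1, by norm_num⟩, true, fun _ => rfl, fun _ => rfl,
        c, hc0, fun v => by rw [mul_smul, hsΦ, L.linear r hr.1, hrΦ, qif_true one_pos]⟩
  · intro v
    rw [hΦ]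
    refine Submodule.add_mem _ (Submodule.smul_mem _ _ (Submodule.subset_span ⟨1, Or.inl rfl, ?_⟩))
      (Submodule.smul_mem _ _ (Submodule.subset_span ⟨r, Or.inr (Or.inl rfl), rfl⟩))
    exact one_smul G x
  · intro e he
    rcases commute_or_anti L hexp he hr.1 with h1 | h1 <;>
      rcases commute_or_anti L hexp he hs.1 with h2' | h2'
    · exact ⟨1, Or.inl rfl, by rw [inv_one, mul_one]; exact hcomm _ h1 h2'⟩
    · exact ⟨r, Or.inr (Or.inl rfl), hcomm _ (h1.mul_left (Commute.refl _).inv_left)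
        (Anti.mul_anti h2' hsr.symm.inv_left)⟩
    · exact ⟨s, Or.inr (Or.inr (Or.inl rfl)), hcomm _ (Anti.mul_anti h1 hsr.inv_left)
        (h2'.mul_left (Commute.refl _).inv_left)⟩
    · exact ⟨r * s, Or.inr (Or.inr (Or.inr rfl)), hcomm _
        (Anti.mul_anti h1 (Anti.commute_mul (Commute.refl r) hsr).inv_left)
        (Anti.mul_anti h2' (hsr.symm.mul_commute (Commute.refl s)).inv_left)⟩
  · intro e he
    refine ⟨1, Or.inl rfl, one_mem _, ?_⟩
    rw [inv_one, mul_one]
    exact hcomm e (L.commute_lineCent hr he) (L.commute_lineCent hs he)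
  · intro z hz hzc
    obtain ⟨k, l, hzx⟩ := hspan z hz
    have hzr : z • r • x = k • r • x - l • x := by
      rw [commute_iff_smul.1 (hzc r (Or.inr (Or.inl rfl))), hzx, smul_add, L.linear r hr.1,
        L.linear r hr.1, hrr, smul_neg, sub_eq_add_neg]
    have h1 : z • s • x = s • z • x := commute_iff_smul.1 (hzc s (Or.inr (Or.inr (Or.inl rfl)))) x
    rw [hsx, hzx, smul_add, smul_add, L.linear z hz.1, L.linear z hz.1, hzx, hzr, L.linear s hs.1,
      L.linear s hs.1, hsx, hsrx] at h1
    have h3 : ((2 : K) * c * l) • (r • x - x) = 0 := by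
      rw [← sub_eq_zero] at h1
      rw [← h1]
      generalize r • x = y
      module
    have hne : r • x - x ≠ 0 := fun h => hry 1 (by rw [one_smul]; exact sub_eq_zero.1 h)
    have hl : l = 0 := by
      have := (smul_eq_zero.1 h3).resolve_right hne
      simpa [h2, hc0] using this
    exact ⟨hz.1, k, by rw [hzx, hl, zero_smul, add_zero]⟩
  · rintro g (rfl | rfl | rfl | rfl) <;> refine ⟨1, Finset.mem_singleton_self 1, ?_⟩ <;>
      rw [inv_one, one_mul]
    exacts [one_mem (L.lineCent x), hr, hs, mul_mem hr hs]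

/-- A small layer with a line fixed by the centraliser of its stabiliser has the standard model. -/
theorem model_plus (L : Layer G V K) (F : Frame L) {q n : ℕ} (hq : Nat.card K = q)
    (hq35 : q = 3 ∨ q = 5) (hexp : ∀ e ∈ L.E, e * e ∈ L.U)
    (hsc : ∀ r ∈ L.lineCent F.x, ∃ k : K, r • F.x = k • F.x)
    (hn : (L.lineStab F.x).relIndex L.E = 2 ^ n) (hn4 : n ≤ 4) :
    Nonempty (Model L ⟨n, false⟩) := by
  have hR : L.lineCent F.x = L.lineStab F.x :=
    le_antisymm (fun r hr => ⟨hr.1, hsc r hr⟩) (L.lineStab_le_lineCent F.ne_zero)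
  have h2 : (2 : K) ≠ 0 := two_ne_zero_of_card (by rcases hq35 with rfl | rfl <;> rw [hq])
  have hsq : ∀ e ∈ L.E, ∀ l : K, (∀ v : V, e • e • v = l • v) → IsSquare l ∨ IsSquare (-l) := by
    intro e he l hl
    rcases hq35 with rfl | rfl
    · rcases sign_of_card_three hq l with h | h | h
      · exact Or.inl (h ▸ IsSquare.zero)
      · exact Or.inl (h ▸ IsSquare.one)
      · exact Or.inr (by rw [h, neg_neg]; exact IsSquare.one)
    · exact Or.inl (square_scalar_of_card_five L hexp hq he hl)
  rw [← hR] at hn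
  exact exists_model (startPlus L F.ne_zero hsc) hexp F.ne_zero h2 hsq hn
    (Nat.add_le_add hn4 (Nat.zero_le 1))

/-- A small layer without such a line has the standard model of quaternion type. -/
theorem model_minus (L : Layer G V K) (F : Frame L) (hq : Nat.card K = 3)
    (hexp : ∀ e ∈ L.E, e * e ∈ L.U)
    (hns : ¬ ∀ r ∈ L.lineCent F.x, ∃ k : K, r • F.x = k • F.x)
    {n : ℕ} (hn : (L.lineCent F.x).relIndex L.E = 2 ^ n) (hn4 : n ≤ 4) :
    Nonempty (Model L ⟨n + 1, true⟩) := by
  obtain ⟨S⟩ := exists_startMinus L F hq hexp hns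
  refine exists_model S hexp F.ne_zero (two_ne_zero_of_card (by rw [hq])) (fun e _ l _ => ?_) hn
    (Nat.add_le_add hn4 le_rfl)
  rcases sign_of_card_three hq l with h | h | h
  · exact Or.inl (h ▸ IsSquare.zero)
  · exact Or.inl (h ▸ IsSquare.one)
  · exact Or.inr (by rw [h, neg_neg]; exact IsSquare.one)

end Cfsg.Agent.H67.BaseTwo
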