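import Cfsg.Agent.H86.BaseTwo.Spec

/-! Doubling of the standard monomial operators. -/

set_option autoImplicit false
set_option linter.unusedSectionVars false

namespace Cfsg.Agent.H67.BaseTwo

open Cfsg.Agent.H86.BaseTwo (pauli quat pairing)

universe u

theorem bit_table : ∀ d : Fin 5, ∀ a b : Fin 16, a.1 < 2 ^ d.1 → b.1 < 2 ^ d.1 →
    (b.1 + 2 ^ d.1) ^^^ a.1 = (b.1 ^^^ a.1) + 2 ^ d.1 ∧
    b.1 ^^^ (a.1 + 2 ^ d.1) = (b.1 ^^^ a.1) + 2 ^ d.1 ∧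
    (b.1 + 2 ^ d.1) ^^^ (a.1 + 2 ^ d.1) = b.1 ^^^ a.1 ∧
    pairing a.1 (b.1 + 2 ^ d.1) = pairing a.1 b.1 ∧
    pairing (a.1 + 2 ^ d.1) b.1 = pairing a.1 b.1 ∧
    pairing (a.1 + 2 ^ d.1) (b.1 + 2 ^ d.1) = (pairing a.1 b.1 + 1) % 2 := by
  decide +kernel

theorem bits {d : ℕ} (hd : d ≤ 4) {a z : ℕ} (ha : a < 2 ^ d) (hz : z < 2 ^ d) :
    (z + 2 ^ d) ^^^ a = (z ^^^ a) + 2 ^ d ∧
    z ^^^ (a + 2 ^ d) = (z ^^^ a) + 2 ^ d ∧
    (z + 2 ^ d) ^^^ (a + 2 ^ d) = z ^^^ a ∧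
    pairing a (z + 2 ^ d) = pairing a z ∧
    pairing (a + 2 ^ d) z = pairing a z ∧
    pairing (a + 2 ^ d) (z + 2 ^ d) = (pairing a z + 1) % 2 := by
  have h16 : 2 ^ d ≤ 16 := le_trans (Nat.pow_le_pow_right (by norm_num) hd) (by norm_num)
  exact bit_table ⟨d, by omega⟩ ⟨a, lt_of_lt_of_le ha h16⟩ ⟨z, lt_of_lt_of_le hz h16⟩ ha hz

variable {K : Type u} [Field K] {d : ℕ}

/-- The lower half. -/
def lo (z : Fin (2 ^ d)) : Fin (2 ^ (d + 1)) := ⟨z.1, by rw [pow_succ]; omega⟩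

/-- The upper half. -/
def hi (z : Fin (2 ^ d)) : Fin (2 ^ (d + 1)) := ⟨z.1 + 2 ^ d, by rw [pow_succ]; omega⟩

theorem lo_or_hi (z : Fin (2 ^ (d + 1))) : (∃ y, z = lo y) ∨ ∃ y, z = hi y := by
  have hz : z.1 < 2 ^ d + 2 ^ d := lt_of_lt_of_eq z.2 (by rw [pow_succ]; ring)
  by_cases h : z.1 < 2 ^ d
  · exact Or.inl ⟨⟨z.1, h⟩, rfl⟩
  · exact Or.inr ⟨⟨z.1 - 2 ^ d, by omega⟩, Fin.ext (by simp only [hi]; omega)⟩

/-- The coordinates in the lower half. -/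
def vlo : (Fin (2 ^ (d + 1)) → K) →ₗ[K] (Fin (2 ^ d) → K) := LinearMap.funLeft K K lo

/-- The coordinates in the upper half. -/
def vhi : (Fin (2 ^ (d + 1)) → K) →ₗ[K] (Fin (2 ^ d) → K) := LinearMap.funLeft K K hi

theorem vlo_apply (v : Fin (2 ^ (d + 1)) → K) (z : Fin (2 ^ d)) : vlo v z = v (lo z) := rfl

theorem vhi_apply (v : Fin (2 ^ (d + 1)) → K) (z : Fin (2 ^ d)) : vhi v z = v (hi z) := rfl

theorem ext_halves {v w : Fin (2 ^ (d + 1)) → K} (h1 : vlo v = vlo w) (h2 : vhi v = vhi w) :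
    v = w := by
  funext z
  rcases lo_or_hi z with ⟨y, rfl⟩ | ⟨y, rfl⟩
  · exact congrFun h1 y
  · exact congrFun h2 y

theorem neg_one_pow_succ_mod (n : ℕ) : (-1 : K) ^ ((n + 1) % 2) = -((-1 : K) ^ n) := by
  rw [← neg_one_pow_eq_pow_mod_two, pow_succ, mul_neg, mul_one]

/-- The translated argument. -/
def sh (z a : Fin (2 ^ d)) : Fin (2 ^ d) := ⟨z.1 ^^^ a.1, Nat.xor_lt_two_pow z.2 a.2⟩

theorem pauli_apply (a b : Fin (2 ^ d)) (v : Fin (2 ^ d) → K) (z : Fin (2 ^ d)) :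
    pauli d a b v z = (-1 : K) ^ pairing b.1 (sh z a).1 * v (sh z a) := rfl

theorem sh_lo_lo (z a : Fin (2 ^ d)) : sh (lo z) (lo a) = lo (sh z a) := rfl

theorem sh_hi_lo (hd : d ≤ 4) (z a : Fin (2 ^ d)) : sh (hi z) (lo a) = hi (sh z a) :=
  Fin.ext (bits hd a.2 z.2).1

theorem sh_lo_hi (hd : d ≤ 4) (z a : Fin (2 ^ d)) : sh (lo z) (hi a) = hi (sh z a) :=
  Fin.ext (bits hd a.2 z.2).2.1

theorem sh_hi_hi (hd : d ≤ 4) (z a : Fin (2 ^ d)) : sh (hi z) (hi a) = lo (sh z a) :=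
  Fin.ext (bits hd a.2 z.2).2.2.1

theorem pairing_lo_hi (hd : d ≤ 4) (b z : Fin (2 ^ d)) : pairing (lo b).1 (hi z).1 = pairing b.1 z.1 :=
  (bits hd b.2 z.2).2.2.2.1

theorem pairing_hi_lo (hd : d ≤ 4) (b z : Fin (2 ^ d)) : pairing (hi b).1 (lo z).1 = pairing b.1 z.1 :=
  (bits hd b.2 z.2).2.2.2.2.1

theorem pairing_hi_hi (hd : d ≤ 4) (b z : Fin (2 ^ d)) :
    pairing (hi b).1 (hi z).1 = (pairing b.1 z.1 + 1) % 2 := (bits hd b.2 z.2).2.2.2.2.2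

theorem pauli_lo_lo (hd : d ≤ 4) (a b : Fin (2 ^ d)) (v : Fin (2 ^ (d + 1)) → K) :
    vlo (pauli (d + 1) (lo a) (lo b) v) = pauli d a b (vlo v) ∧
      vhi (pauli (d + 1) (lo a) (lo b) v) = pauli d a b (vhi v) := by
  constructor <;> funext z
  · rw [vlo_apply, pauli_apply, sh_lo_lo, pauli_apply]; rfl
  · rw [vhi_apply, pauli_apply, sh_hi_lo hd, pairing_lo_hi hd, pauli_apply]; rfl

theorem pauli_hi_lo (hd : d ≤ 4) (a b : Fin (2 ^ d)) (v : Fin (2 ^ (d + 1)) → K) :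
    vlo (pauli (d + 1) (hi a) (lo b) v) = pauli d a b (vhi v) ∧
      vhi (pauli (d + 1) (hi a) (lo b) v) = pauli d a b (vlo v) := by
  constructor <;> funext z
  · rw [vlo_apply, pauli_apply, sh_lo_hi hd, pairing_lo_hi hd, pauli_apply]; rfl
  · rw [vhi_apply, pauli_apply, sh_hi_hi hd, pauli_apply]; rfl

theorem pauli_lo_hi (hd : d ≤ 4) (a b : Fin (2 ^ d)) (v : Fin (2 ^ (d + 1)) → K) :
    vlo (pauli (d + 1) (lo a) (hi b) v) = pauli d a b (vlo v) ∧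
      vhi (pauli (d + 1) (lo a) (hi b) v) = -pauli d a b (vhi v) := by
  constructor <;> funext z
  · rw [vlo_apply, pauli_apply, sh_lo_lo, pairing_hi_lo hd, pauli_apply]; rfl
  · rw [vhi_apply, pauli_apply, sh_hi_lo hd, pairing_hi_hi hd, neg_one_pow_succ_mod, Pi.neg_apply,
      pauli_apply, neg_mul]
    rfl

theorem pauli_hi_hi (hd : d ≤ 4) (a b : Fin (2 ^ d)) (v : Fin (2 ^ (d + 1)) → K) :
    vlo (pauli (d + 1) (hi a) (hi b) v) = -pauli d a b (vhi v) ∧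
      vhi (pauli (d + 1) (hi a) (hi b) v) = pauli d a b (vlo v) := by
  constructor <;> funext z
  · rw [vlo_apply, pauli_apply, sh_lo_hi hd, pairing_hi_hi hd, neg_one_pow_succ_mod, Pi.neg_apply,
      pauli_apply, neg_mul]
    rfl
  · rw [vhi_apply, pauli_apply, sh_hi_hi hd, pairing_hi_lo hd, pauli_apply]; rfl

theorem quat_halves (hd : d ≤ 4) (h0 : 0 < d) (h0' : 0 < d + 1) (v : Fin (2 ^ (d + 1)) → K) :
    vlo (quat (d + 1) h0' v) = quat d h0 (vlo v) ∧ vhi (quat (d + 1) h0' v) = quat d h0 (vhi v) := by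
  have h2 : (2 : ℕ) ^ d % 2 = 0 := by
    obtain ⟨k, rfl⟩ := Nat.exists_eq_succ_of_ne_zero h0.ne'
    rw [pow_succ]; omega
  have h1 : (1 : ℕ) < 2 ^ d := Nat.one_lt_two_pow h0.ne'
  constructor <;> funext z
  · rfl
  · show v _ + (-1 : K) ^ ((z.1 + 2 ^ d) % 2) * _ = v _ + (-1 : K) ^ (z.1 % 2) * _
    rw [show (z.1 + 2 ^ d) % 2 = z.1 % 2 by omega]
    congr 2
    exact Fin.ext (bits hd h1 z.2).1

end Cfsg.Agent.H67.BaseTwo
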