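import Mathlib.Algebra.Module.ZMod
import Mathlib.Algebra.Field.ZMod
import Mathlib.GroupTheory.OrderOfElement
import Mathlib.GroupTheory.QuotientGroup.Basic
import Mathlib.LinearAlgebra.Dimension.Free
import Mathlib.LinearAlgebra.FiniteDimensional.Basic
import Mathlib.FieldTheory.Finiteness
import Mathlib.Data.Fintype.Pi

/-!
Colourings of the groups of order eight and sixteen of exponent two by a four-group which only the
identity preserves up to a linear shift.
-/

set_option autoImplicit false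
set_option linter.unusedSectionVars false
set_option linter.style.haveILetI false

namespace Cfsg.Agent.H67.BaseTwo

universe u

/-- The coordinates of a number below `2 ^ k`. -/
def bitsOf (k : ℕ) (i : Fin (2 ^ k)) : Fin k → ZMod 2 := fun j => if i.1.testBit j.1 then 1 else 0

theorem bitsOf_table : ∀ k : Fin 5, ∀ i j : Fin (2 ^ k.1),
    bitsOf k.1 (i ^^^ j) = bitsOf k.1 i + bitsOf k.1 j ∧ (bitsOf k.1 i = bitsOf k.1 j → i = j) := by
  decide +kernel

/-- Numbers with exclusive or as coordinates on a group of exponent two. -/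
theorem exists_xor_coord {T : Type u} [CommGroup T] [Finite T] (hT : ∀ t : T, t * t = 1) {k : ℕ}
    (hk : k ≤ 4) (hcard : Nat.card T = 2 ^ k) :
    ∃ e : Fin (2 ^ k) → T, Function.Bijective e ∧ ∀ i j, e (i ^^^ j) = e i * e j := by
  letI : Module (ZMod 2) (Additive T) :=
    AddCommGroup.zmodModule (n := 2) fun x => by
      rw [two_nsmul]
      exact congrArg Additive.ofMul (hT x.toMul)
  haveI : Fact (Nat.Prime 2) := ⟨Nat.prime_two⟩
  haveI : Module.Finite (ZMod 2) (Additive T) := Module.Finite.of_finite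
  have hfin : Module.finrank (ZMod 2) (Additive T) = Module.finrank (ZMod 2) (Fin k → ZMod 2) := by
    have h := Module.natCard_eq_pow_finrank (K := ZMod 2) (V := Additive T)
    rw [Nat.card_zmod, show Nat.card (Additive T) = Nat.card T from rfl, hcard] at h
    rw [Module.finrank_fin_fun]
    exact (Nat.pow_right_injective le_rfl h).symm
  let E : Additive T ≃ₗ[ZMod 2] (Fin k → ZMod 2) := LinearEquiv.ofFinrankEq _ _ hfin
  have htab := bitsOf_table ⟨k, by omega⟩
  refine ⟨fun i => (E.symm (bitsOf k i)).toMul, ?_, fun i j => ?_⟩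
  · have hinj : Function.Injective fun i => (E.symm (bitsOf k i)).toMul := fun i j h =>
      (htab i j).2 (E.symm.injective (congrArg Additive.ofMul h))
    haveI := Fintype.ofFinite T
    refine (Fintype.bijective_iff_injective_and_card _).2 ⟨hinj, ?_⟩
    rw [Fintype.card_fin, ← Nat.card_eq_fintype_card, hcard]
  · show (E.symm (bitsOf k (i ^^^ j))).toMul = _
    rw [(htab i j).1, map_add]
    rfl

/-- All exclusive ors of subfamilies. -/
def xorSpan {n : ℕ} [NeZero n] : List (Fin n) → List (Fin n)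
  | [] => [0]
  | v :: S => if v ∈ xorSpan S then xorSpan S else xorSpan S ++ (xorSpan S).map (v ^^^ ·)

theorem xorSpan_mem {T : Type u} [CommGroup T] {n : ℕ} [NeZero n] (e : Fin n → T)
    (he : ∀ i j, e (i ^^^ j) = e i * e j) (he0 : e 0 = 1) (S : List (Fin n)) :
    ∀ x ∈ xorSpan S, e x ∈ Subgroup.closure {t : T | ∃ v ∈ S, t = e v} := by
  induction S with
  | nil =>
    intro x hx
    rw [xorSpan, List.mem_singleton] at hx
    rw [hx, he0]
    exact one_mem _
  | cons v S ih =>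
    have hmono : Subgroup.closure {t : T | ∃ w ∈ S, t = e w} ≤
        Subgroup.closure {t : T | ∃ w ∈ v :: S, t = e w} :=
      Subgroup.closure_mono fun t ⟨w, hw, ht⟩ => ⟨w, List.mem_cons_of_mem _ hw, ht⟩
    intro x hx
    rw [xorSpan] at hx
    split at hx
    · exact hmono (ih x hx)
    · rcases List.mem_append.1 hx with hx | hx
      · exact hmono (ih x hx)
      · obtain ⟨y, hy, rfl⟩ := List.mem_map.1 hx
        rw [he]
        exact mul_mem (Subgroup.subset_closure ⟨v, List.mem_cons_self .., rfl⟩) (hmono (ih y hy))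

/-- The elements compatible with a given one. -/
def near {n : ℕ} [NeZero n] (F : Fin n → Option (Fin 4)) (u : Fin n) : List (Fin n) :=
  (List.finRange n).filter fun v => (F v).isSome && ((F (u ^^^ v)).isSome || u ^^^ v == 0)

/-- A shifted colour. -/
def Shift {n : ℕ} (F : Fin n → Option (Fin 4)) (t p : Fin n) (l : Fin 4) : Prop :=
  F p = (F t).map (fun q => l ^^^ q)

instance {n : ℕ} (F : Fin n → Option (Fin 4)) (t p : Fin n) (l : Fin 4) :
    Decidable (Shift F t p l) := inferInstanceAs (Decidable (_ = _))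

/-- The colouring of the group of order eight. -/
def plane8 : Fin 8 → Option (Fin 4) :=
  ![none, some 0, some 2, none, some 2, some 2, some 2, some 3]

/-- The colouring of the group of order sixteen. -/
def plane16 : Fin 16 → Option (Fin 4) :=
  ![none, some 2, some 2, none, some 1, some 1, some 1, none, some 0, none, some 0, some 2, none,
    some 3, some 2, some 1]

theorem plane8_rigid : ∀ p1 l1, Shift plane8 1 p1 l1 →
    ∀ p2 l2, Shift plane8 2 p2 l2 → Shift plane8 3 (p1 ^^^ p2) (l1 ^^^ l2) →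
    ∀ p3 l3, Shift plane8 4 p3 l3 → Shift plane8 5 (p1 ^^^ p3) (l1 ^^^ l3) →
      Shift plane8 6 (p2 ^^^ p3) (l2 ^^^ l3) → Shift plane8 7 (p1 ^^^ p2 ^^^ p3) (l1 ^^^ l2 ^^^ l3) →
      (p1 = p2 ∨ p1 = p3 ∨ p2 = p3) ∨ (p1 = 1 ∧ p2 = 2 ∧ p3 = 4) := by
  decide +kernel

/-- The conditions on the image of the last basis vector. -/
def Last16 (p1 : Fin 16) (l1 : Fin 4) (p2 : Fin 16) (l2 : Fin 4) (p3 : Fin 16) (l3 : Fin 4) : Prop :=
  ∀ p4 l4, Shift plane16 8 p4 l4 → Shift plane16 10 (p1 ^^^ p4) (l1 ^^^ l4) →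
      Shift plane16 12 (p2 ^^^ p4) (l2 ^^^ l4) → Shift plane16 13 (p3 ^^^ p4) (l3 ^^^ l4) →
      Shift plane16 14 (p1 ^^^ p2 ^^^ p4) (l1 ^^^ l2 ^^^ l4) →
      Shift plane16 15 (p1 ^^^ p3 ^^^ p4) (l1 ^^^ l3 ^^^ l4) →
      Shift plane16 9 (p2 ^^^ p3 ^^^ p4) (l2 ^^^ l3 ^^^ l4) →
      Shift plane16 11 (p1 ^^^ p2 ^^^ p3 ^^^ p4) (l1 ^^^ l2 ^^^ l3 ^^^ l4) →
      (p1 = p2 ∨ p1 = p3 ∨ p1 = p4 ∨ p2 = p3 ∨ p2 = p4 ∨ p3 = p4) ∨
        (p1 = 2 ∧ p2 = 4 ∧ p3 = 5 ∧ p4 = 8)

instance (p1 : Fin 16) (l1 : Fin 4) (p2 : Fin 16) (l2 : Fin 4) (p3 : Fin 16) (l3 : Fin 4) :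
    Decidable (Last16 p1 l1 p2 l2 p3 l3) := by
  unfold Last16
  infer_instance

theorem plane16_rigid : ∀ p1 l1, Shift plane16 2 p1 l1 →
    ∀ p2 l2, Shift plane16 4 p2 l2 → Shift plane16 6 (p1 ^^^ p2) (l1 ^^^ l2) →
    ∀ p3 l3, Shift plane16 5 p3 l3 → Shift plane16 7 (p1 ^^^ p3) (l1 ^^^ l3) →
      Shift plane16 1 (p2 ^^^ p3) (l2 ^^^ l3) →
      Shift plane16 3 (p1 ^^^ p2 ^^^ p3) (l1 ^^^ l2 ^^^ l3) → Last16 p1 l1 p2 l2 p3 l3 := by
  decide +kernel

/-- From a table to a group. -/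
theorem colour_of_table {T Q : Type u} [CommGroup T] [CommGroup Q] {n : ℕ} [NeZero n]
    (e : Fin n → T) (he : Function.Bijective e) (hmul : ∀ i j, e (i ^^^ j) = e i * e j) (h00 : (0 : Fin n) ^^^ 0 = 0)
    (eQ : Fin 4 → Q) (heQ : Function.Bijective eQ) (hmulQ : ∀ i j, eQ (i ^^^ j) = eQ i * eQ j)
    (F : Fin n → Option (Fin 4)) (B : List (Fin n))
    (hB0 : ∀ b ∈ B, b ≠ 0) (hBF : ∀ b ∈ B, F b ≠ none) (hB : ∀ x : Fin n, x ∈ xorSpan B)
    (hnear : ∀ b ∈ B, ∀ x : Fin n, x ∈ xorSpan (near F b))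
    (hrig : ∀ (R : Fin n → Fin n → Fin 4 → Prop),
      (∀ t, ∃ p l, R t p l) → (∀ t p l, R t p l → t ≠ 0 → Shift F t p l) →
      (∀ t p l t' p' l', R t p l → R t' p' l' → R (t ^^^ t') (p ^^^ p') (l ^^^ l')) →
      (∀ t t' p l l', R t p l → R t' p l' → t = t') →
      (∀ t p p' l l', R t p l → R t p' l' → p = p') → ∀ b ∈ B, ∀ p l, R b p l → p = b) :
    ∃ (F : T → Option Q) (Gen : Finset T), 1 ∉ Gen ∧ Subgroup.closure (Gen : Set T) = ⊤ ∧
      (∀ s ∈ Gen, F s ≠ none) ∧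
      (∀ u ∈ Gen, Subgroup.closure {v : T | F v ≠ none ∧ (F (u * v) ≠ none ∨ u * v = 1)} = ⊤) ∧
      ∀ (π : T ≃* T) (L : T →* Q), (∀ t, t ≠ 1 → F (π t) = (F t).map (L t * ·)) →
        ∀ t, π t = t := by
  classical
  let ee := Equiv.ofBijective e he
  let qq := Equiv.ofBijective eQ heQ
  have he0 : e 0 = 1 := by
    have := hmul 0 0
    rw [h00] at this
    exact left_eq_mul.1 this
  have hsymm : ∀ i, ee.symm (e i) = i := ee.symm_apply_apply
  have hF : ∀ i, (F (ee.symm (e i))).map eQ = (F i).map eQ := fun i => by rw [hsymm]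
  refine ⟨fun t => (F (ee.symm t)).map eQ, (B.map e).toFinset, ?_, ?_, ?_, ?_, ?_⟩
  · intro h
    obtain ⟨b, hb, hb'⟩ := List.mem_map.1 (List.mem_toFinset.1 h)
    exact hB0 b hb (he.1 (hb'.trans he0.symm))
  · refine eq_top_iff.2 fun t _ => ?_
    obtain ⟨i, rfl⟩ := he.2 t
    refine Subgroup.closure_mono ?_ (xorSpan_mem e hmul he0 B i (hB i))
    rintro _ ⟨v, hv, rfl⟩
    exact Finset.mem_coe.2 (List.mem_toFinset.2 (List.mem_map_of_mem hv))
  · intro s hs
    obtain ⟨b, hb, rfl⟩ := List.mem_map.1 (List.mem_toFinset.1 hs)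
    simp only [hsymm, ne_eq, Option.map_eq_none_iff]
    exact hBF b hb
  · intro u hu
    obtain ⟨b, hb, rfl⟩ := List.mem_map.1 (List.mem_toFinset.1 hu)
    refine eq_top_iff.2 fun t _ => ?_
    obtain ⟨i, rfl⟩ := he.2 t
    refine Subgroup.closure_mono ?_ (xorSpan_mem e hmul he0 (near F b) i (hnear b hb i))
    rintro _ ⟨v, hv, rfl⟩
    simp only [near, List.mem_filter, Bool.and_eq_true, Bool.or_eq_true, beq_iff_eq] at hv
    obtain ⟨-, h1, h2⟩ := hv
    refine ⟨?_, ?_⟩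
    · simp only [hsymm, ne_eq, Option.map_eq_none_iff]
      exact fun h => by rw [h] at h1; exact Bool.noConfusion h1
    · rw [← hmul]
      rcases h2 with h2 | h2
      · left
        simp only [hsymm, ne_eq, Option.map_eq_none_iff]
        exact fun h => by rw [h] at h2; exact Bool.noConfusion h2
      · right
        rw [h2, he0]
  · intro π L hπ
    let R : Fin n → Fin n → Fin 4 → Prop := fun t p l => π (e t) = e p ∧ L (e t) = eQ l
    have hfix : ∀ b ∈ B, π (e b) = e b := by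
      intro b hb
      obtain ⟨p, hp⟩ := he.2 (π (e b))
      obtain ⟨l, hl⟩ := heQ.2 (L (e b))
      have := hrig R (fun t => ?_) (fun t p l h ht => ?_) (fun t p l t' p' l' h h' => ?_)
        (fun t t' p l l' h h' => he.1 (π.injective (h.1.trans h'.1.symm)))
        (fun t p p' l l' h h' => he.1 (h.1.symm.trans h'.1)) b hb p l ⟨hp.symm, hl.symm⟩
      · rw [← hp, this]
      · obtain ⟨p, hp⟩ := he.2 (π (e t))
        obtain ⟨l, hl⟩ := heQ.2 (L (e t))
        exact ⟨p, l, hp.symm, hl.symm⟩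
      · have h1 := hπ (e t) fun h1 => ht (he.1 (h1.trans he0.symm))
        simp only [h.1, h.2, hsymm] at h1
        refine Option.map_injective heQ.1 (h1.trans ?_)
        rw [Option.map_map, Option.map_map]
        congr 1
        funext q
        exact (hmulQ l q).symm
      · exact ⟨by rw [hmul, map_mul, h.1, h'.1, hmul], by rw [hmul, map_mul, h.2, h'.2, hmulQ]⟩
    intro t
    obtain ⟨i, rfl⟩ := he.2 t
    have hmem := xorSpan_mem e hmul he0 B i (hB i)
    have heq : Set.EqOn π.toMonoidHom (MonoidHom.id T) {t : T | ∃ v ∈ B, t = e v} := by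
      rintro _ ⟨v, hv, rfl⟩
      exact hfix v hv
    exact MonoidHom.eqOn_closure heq hmem

theorem exists_plane_colour (T Q : Type u) [CommGroup T] [Finite T] [CommGroup Q] [Finite Q]
    (hT : ∀ t : T, t * t = 1) (hT' : Nat.card T = 8 ∨ Nat.card T = 16) (hQ : ∀ q : Q, q * q = 1)
    (hQ' : Nat.card Q = 4) :
    ∃ (F : T → Option Q) (Gen : Finset T), 1 ∉ Gen ∧ Subgroup.closure (Gen : Set T) = ⊤ ∧
      (∀ s ∈ Gen, F s ≠ none) ∧
      (∀ u ∈ Gen, Subgroup.closure {v : T | F v ≠ none ∧ (F (u * v) ≠ none ∨ u * v = 1)} = ⊤) ∧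
      ∀ (π : T ≃* T) (L : T →* Q), (∀ t, t ≠ 1 → F (π t) = (F t).map (L t * ·)) →
        ∀ t, π t = t := by
  obtain ⟨eQ, heQ, hmulQ⟩ := exists_xor_coord hQ (k := 2) (by norm_num) hQ'
  rcases hT' with h | h
  · obtain ⟨e, he, hmul⟩ := exists_xor_coord hT (k := 3) (by norm_num) h
    refine colour_of_table e he hmul rfl eQ heQ hmulQ plane8 [1, 2, 4] (by decide +kernel)
      (by decide +kernel) (by decide +kernel) (by decide +kernel) fun R hR hS hM hI hU => ?_
    obtain ⟨p1, l1, h1⟩ := hR 1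
    obtain ⟨p2, l2, h2⟩ := hR 2
    obtain ⟨p3, l3, h3⟩ := hR 4
    have h12 := hM _ _ _ _ _ _ h1 h2
    have hres := plane8_rigid p1 l1 (hS _ _ _ h1 (by decide +kernel))
      p2 l2 (hS _ _ _ h2 (by decide +kernel)) (hS _ _ _ h12 (by decide +kernel))
      p3 l3 (hS _ _ _ h3 (by decide +kernel)) (hS _ _ _ (hM _ _ _ _ _ _ h1 h3) (by decide +kernel))
      (hS _ _ _ (hM _ _ _ _ _ _ h2 h3) (by decide +kernel))
      (hS _ _ _ (hM _ _ _ _ _ _ h12 h3) (by decide +kernel))
    obtain ⟨rfl, rfl, rfl⟩ : p1 = 1 ∧ p2 = 2 ∧ p3 = 4 := by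
      refine hres.resolve_left ?_
      rintro (rfl | rfl | rfl)
      · exact absurd (hI _ _ _ _ _ h1 h2) (by decide +kernel)
      · exact absurd (hI _ _ _ _ _ h1 h3) (by decide +kernel)
      · exact absurd (hI _ _ _ _ _ h2 h3) (by decide +kernel)
    intro b hb p l hbp
    simp only [List.mem_cons, List.not_mem_nil, or_false] at hb
    rcases hb with rfl | rfl | rfl
    exacts [hU _ _ _ _ _ hbp h1, hU _ _ _ _ _ hbp h2, hU _ _ _ _ _ hbp h3]
  · obtain ⟨e, he, hmul⟩ := exists_xor_coord hT (k := 4) (by norm_num) h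
    refine colour_of_table e he hmul rfl eQ heQ hmulQ plane16 [2, 4, 5, 8] (by decide +kernel)
      (by decide +kernel) (by decide +kernel) (by decide +kernel) fun R hR hS hM hI hU => ?_
    obtain ⟨p1, l1, h1⟩ := hR 2
    obtain ⟨p2, l2, h2⟩ := hR 4
    obtain ⟨p3, l3, h3⟩ := hR 5
    obtain ⟨p4, l4, h4⟩ := hR 8
    have h12 := hM _ _ _ _ _ _ h1 h2
    have h13 := hM _ _ _ _ _ _ h1 h3
    have h23 := hM _ _ _ _ _ _ h2 h3
    have h123 := hM _ _ _ _ _ _ h12 h3
    have hres := plane16_rigid p1 l1 (hS _ _ _ h1 (by decide +kernel))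
      p2 l2 (hS _ _ _ h2 (by decide +kernel)) (hS _ _ _ h12 (by decide +kernel))
      p3 l3 (hS _ _ _ h3 (by decide +kernel)) (hS _ _ _ h13 (by decide +kernel))
      (hS _ _ _ h23 (by decide +kernel)) (hS _ _ _ h123 (by decide +kernel))
      p4 l4 (hS _ _ _ h4 (by decide +kernel)) (hS _ _ _ (hM _ _ _ _ _ _ h1 h4) (by decide +kernel))
      (hS _ _ _ (hM _ _ _ _ _ _ h2 h4) (by decide +kernel))
      (hS _ _ _ (hM _ _ _ _ _ _ h3 h4) (by decide +kernel))
      (hS _ _ _ (hM _ _ _ _ _ _ h12 h4) (by decide +kernel))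
      (hS _ _ _ (hM _ _ _ _ _ _ h13 h4) (by decide +kernel))
      (hS _ _ _ (hM _ _ _ _ _ _ h23 h4) (by decide +kernel))
      (hS _ _ _ (hM _ _ _ _ _ _ h123 h4) (by decide +kernel))
    obtain ⟨rfl, rfl, rfl, rfl⟩ : p1 = 2 ∧ p2 = 4 ∧ p3 = 5 ∧ p4 = 8 := by
      refine hres.resolve_left ?_
      rintro (rfl | rfl | rfl | rfl | rfl | rfl)
      · exact absurd (hI _ _ _ _ _ h1 h2) (by decide +kernel)
      · exact absurd (hI _ _ _ _ _ h1 h3) (by decide +kernel)
      · exact absurd (hI _ _ _ _ _ h1 h4) (by decide +kernel)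
      · exact absurd (hI _ _ _ _ _ h2 h3) (by decide +kernel)
      · exact absurd (hI _ _ _ _ _ h2 h4) (by decide +kernel)
      · exact absurd (hI _ _ _ _ _ h3 h4) (by decide +kernel)
    intro b hb p l hbp
    simp only [List.mem_cons, List.not_mem_nil, or_false] at hb
    rcases hb with rfl | rfl | rfl | rfl
    exacts [hU _ _ _ _ _ hbp h1, hU _ _ _ _ _ hbp h2, hU _ _ _ _ _ hbp h3, hU _ _ _ _ _ hbp h4]

end Cfsg.Agent.H67.BaseTwo
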