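import Cfsg.Agent.H67.BaseTwo.RigidSmall

/-!
A rigid subset of the group of order thirty-two of exponent two which detects quadratic functions.
-/

set_option autoImplicit false
set_option linter.unusedSectionVars false
set_option linter.style.haveILetI false

namespace Cfsg.Agent.H67.BaseTwo

namespace Five

universe u

/-- The subset, as a mask. -/
def mask : ℕ := 495800830

/-- The numbers in the subset. -/
def Mem (i : Fin 32) : Prop := i ≠ 0 ∧ mask.testBit i.1 = true

instance : DecidablePred Mem := fun _ => inferInstanceAs (Decidable (_ ∧ _))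

/-- Good elements of the subset, each with partners generating everything. -/
def good : List (Fin 32 × List (Fin 32)) :=
  [(1, [2, 3, 4, 18, 26]), (2, [1, 3, 4, 12, 16]), (4, [1, 2, 5, 8, 19]), (8, [4, 6, 12, 16, 19]),
    (16, [2, 3, 7, 8, 18])]

theorem good_mem : ∀ p ∈ good, Mem p.1 ∧ ∀ v ∈ p.2, Mem v ∧ Mem (p.1 ^^^ v) := by decide +kernel

theorem good_span : ∀ p ∈ good, ∀ x : Fin 32, x ∈ xorSpan p.2 := by decide +kernel

theorem base_span : ∀ x : Fin 32, x ∈ xorSpan (good.map Prod.fst) := by decide +kernel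

theorem only_identity : Rigid.cands 32 mask 5 = [List.range 32] := by decide +kernel

set_option linter.unusedSimpArgs false in
theorem bitsOf_five_add (i j : Fin (2 ^ 5)) :
    bitsOf 5 (i ^^^ j) = bitsOf 5 i + bitsOf 5 j := by
  have h2 : (1 : ZMod 2) + 1 = 0 := by decide
  funext b
  simp only [bitsOf, Pi.add_apply, Fin.xor_val_of_two_pow, Nat.testBit_xor]
  rcases i.1.testBit b.1 <;> rcases j.1.testBit b.1 <;> simp [h2]

/-- Numbers below thirty-two as coordinates on a group of exponent two. -/
theorem exists_coord {T : Type u} [CommGroup T] [Finite T] (hT : ∀ t : T, t * t = 1)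
    (hcard : Nat.card T = 32) :
    ∃ e : Fin 32 ≃ T, ∀ i j, e (i ^^^ j) = e i * e j := by
  letI : Module (ZMod 2) (Additive T) :=
    AddCommGroup.zmodModule (n := 2) fun x => by
      rw [two_nsmul]
      exact congrArg Additive.ofMul (hT x.toMul)
  haveI : Fact (Nat.Prime 2) := ⟨Nat.prime_two⟩
  haveI : Module.Finite (ZMod 2) (Additive T) := Module.Finite.of_finite
  have hfin : Module.finrank (ZMod 2) (Additive T) = Module.finrank (ZMod 2) (Fin 5 → ZMod 2) := by
    have h := Module.natCard_eq_pow_finrank (K := ZMod 2) (V := Additive T)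
    rw [Nat.card_zmod, show Nat.card (Additive T) = Nat.card T from rfl, hcard] at h
    rw [Module.finrank_fin_fun]
    exact (Nat.pow_right_injective le_rfl (show 2 ^ 5 = 2 ^ _ from h)).symm
  let E : Additive T ≃ₗ[ZMod 2] (Fin 5 → ZMod 2) := LinearEquiv.ofFinrankEq _ _ hfin
  have hadd := bitsOf_five_add
  have hinj : Function.Injective (bitsOf 5) := by
    intro i j h
    refine Fin.ext (Nat.eq_of_testBit_eq fun b => ?_)
    rcases lt_or_ge b 5 with hb | hb
    · have h1 := congrFun h ⟨b, hb⟩
      simp only [bitsOf] at h1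
      revert h1
      rcases i.1.testBit b <;> rcases j.1.testBit b <;> simp
    · rw [Nat.testBit_lt_two_pow (i.2.trans_le (Nat.pow_le_pow_right two_pos hb)),
        Nat.testBit_lt_two_pow (j.2.trans_le (Nat.pow_le_pow_right two_pos hb))]
  let f : Fin 32 → T := fun i => (E.symm (bitsOf 5 i)).toMul
  have hf : Function.Bijective f := by
    haveI := Fintype.ofFinite T
    refine (Fintype.bijective_iff_injective_and_card _).2
      ⟨fun i j h => hinj (E.symm.injective (congrArg Additive.ofMul h)), ?_⟩
    rw [Fintype.card_fin, ← Nat.card_eq_fintype_card, hcard]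
  refine ⟨Equiv.ofBijective f hf, fun i j => ?_⟩
  show (E.symm (bitsOf 5 (i ^^^ j))).toMul = _
  rw [hadd i j, map_add]
  rfl

theorem closure_eq_top {T : Type u} [CommGroup T] (e : Fin 32 ≃ T)
    (he : ∀ i j, e (i ^^^ j) = e i * e j) (S : List (Fin 32)) (hS : ∀ x : Fin 32, x ∈ xorSpan S)
    (A : Set T) (hA : ∀ v ∈ S, e v ∈ A) : Subgroup.closure A = ⊤ := by
  have he0 : e 0 = 1 := by
    have h := he 0 0
    rw [show (0 : Fin 32) ^^^ 0 = 0 from by decide] at h
    exact left_eq_mul.1 h
  refine eq_top_iff.2 fun t _ => ?_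
  obtain ⟨i, rfl⟩ := e.surjective t
  refine Subgroup.closure_mono ?_ (xorSpan_mem e he he0 S i (hS i))
  rintro _ ⟨v, hv, rfl⟩
  exact hA v hv

end Five

universe u

open Five in
/-- A rigid detecting subset in order thirty-two. -/
theorem rigid_five (T : Type u) [CommGroup T] [Finite T] (hT : ∀ t : T, t * t = 1)
    (h32 : Nat.card T = 32) :
    ∃ Δ : Finset T, 1 ∉ Δ ∧ Subgroup.closure (Δ : Set T) = ⊤ ∧
      Subgroup.closure {u : T | u ∈ Δ ∧ Subgroup.closure {v : T | v ∈ Δ ∧ u * v ∈ Δ} = ⊤} = ⊤ ∧
      ∀ π : T ≃* T, (∀ t, π t ∈ Δ ↔ t ∈ Δ) → ∀ t, π t = t := by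
  classical
  obtain ⟨e, he⟩ := exists_coord hT h32
  letI := Fintype.ofFinite T
  have hn : (32 : ℕ) = 2 ^ 5 := by norm_num
  have he1 : e.symm 1 = 0 := Fin.ext (Rigid.idx_one hn e he)
  refine ⟨Finset.univ.filter fun t => Mem (e.symm t), ?_, ?_, ?_, ?_⟩
  · rw [Finset.mem_filter]
    exact fun h => h.2.1 he1
  · refine closure_eq_top e he (good.map Prod.fst) base_span _ fun v hv => ?_
    obtain ⟨p, hp, rfl⟩ := List.mem_map.1 hv
    simpa using (good_mem p hp).1
  · refine closure_eq_top e he (good.map Prod.fst) base_span _ fun v hv => ?_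
    obtain ⟨p, hp, rfl⟩ := List.mem_map.1 hv
    refine ⟨by simpa using (good_mem p hp).1, ?_⟩
    refine closure_eq_top e he p.2 (good_span p hp) _ fun w hw => ?_
    refine ⟨by simpa using ((good_mem p hp).2 w hw).1, ?_⟩
    rw [← he]
    simpa using ((good_mem p hp).2 w hw).2
  · intro π hπ t
    have key : ∀ s : T, mask.testBit (Rigid.idx e (π s)) = mask.testBit (Rigid.idx e s) := by
      intro s
      rcases eq_or_ne s 1 with rfl | hs
      · rw [map_one]
      have h1 : e.symm s ≠ 0 := fun h => hs (e.symm.injective (h.trans he1.symm))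
      have h2 : e.symm (π s) ≠ 0 := fun h =>
        hs (π.injective ((e.symm.injective (h.trans he1.symm)).trans (map_one π).symm))
      have := hπ s
      simp only [Finset.mem_filter, Finset.mem_univ, true_and] at this
      simp only [Mem, h1, h2, ne_eq, not_false_iff, true_and] at this
      exact Bool.eq_iff_iff.2 this
    have hmem := Rigid.table_mem_cands hn e he (π := π) key
    rw [only_identity, List.mem_singleton] at hmem
    rw [Rigid.eq_one_of_table e hmem]
    rfl

end Cfsg.Agent.H67.BaseTwo
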