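import Cfsg.Agent.H86.BaseTwo.Spec
import Cfsg.Agent.H67.BaseTwo.PlaneColour
import Mathlib.Data.Nat.Bitwise
import Mathlib.GroupTheory.Sylow

/-!
In a group of exponent two and order at most sixteen, a group of automorphisms of order prime to
three leaves some subset with trivial stabiliser.

Automorphisms are recorded by their tables. A certificate is a tree: at a node a subset, with a
branch for a power of each candidate element preserving it; at a leaf a word of order divisible by
three in the elements chosen so far.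
-/

set_option autoImplicit false
set_option linter.unusedSectionVars false
set_option linter.style.haveILetI false

namespace Cfsg.Agent.H67.BaseTwo.Rigid

mutual

/-- Certificate trees. -/
inductive Tree where
  | leaf (w : List ℕ)
  | node (mask : ℕ) (br : Br)

/-- The branches at a node. -/
inductive Br where
  | nil
  | cons (g : List ℕ) (t : Tree) (rest : Br)

end

/-- Composition of tables. -/
def comp (t s : List ℕ) : List ℕ := s.map fun x => t.getD x 0

/-- Powers of a table. -/
def powT (n : ℕ) (x : List ℕ) : ℕ → List ℕ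
  | 0 => List.range n
  | m + 1 => comp x (powT n x m)

/-- The order is divisible by three, as witnessed by a small exponent. -/
def has3 (n : ℕ) (x : List ℕ) : Bool :=
  [1, 2, 5].any fun m => powT n x (3 * m) == List.range n && !(powT n x m == List.range n)

/-- The table agrees with the subset. -/
def keeps (mask : ℕ) : List ℕ → ℕ → Bool
  | [], _ => true
  | x :: t, i => mask.testBit x == mask.testBit i && keeps mask t (i + 1)

/-- The partial tables of automorphisms preserving a subset. -/
def cands (n mask : ℕ) : ℕ → List (List ℕ)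
  | 0 => [[0]]
  | j + 1 => (cands n mask j).flatMap fun t =>
      ((List.range n).filter fun p =>
        !t.contains p && keeps mask (t.map (p ^^^ ·)) t.length).map fun p => t ++ t.map (p ^^^ ·)

/-- Some branch is taken by a power of the element. -/
def covered (n : ℕ) (g : List ℕ) : Br → Bool
  | .nil => false
  | .cons h _ rest => ((List.range 8).any fun i => powT n g i == h) || covered n g rest

mutual

/-- The check of a tree. -/
def checkT (k n : ℕ) (chosen : List (List ℕ)) : Tree → Bool
  | .leaf w => has3 n (w.foldr (fun i acc => comp (chosen.getD i (List.range n)) acc) (List.range n))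
  | .node mask br =>
      (cands n mask k).all (fun g => g == List.range n || has3 n g || covered n g br) &&
        checkBr k n chosen br

/-- The check of the branches. -/
def checkBr (k n : ℕ) (chosen : List (List ℕ)) : Br → Bool
  | .nil => true
  | .cons g t rest => checkT k n (chosen ++ [g]) t && checkBr k n chosen rest

end

/-- The certificate in order 4. -/
def tree4 : Tree :=
  (.node 2 (.cons [0,1,3,2]
    (.node 4 (.cons [0,3,2,1]
      (.leaf [1,0])
      .nil))
    .nil))

/-- The certificate in order 8. -/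
def tree8 : Tree :=
  (.node 22 (.cons [0,1,4,5,2,3,6,7]
    (.node 76 (.cons [0,1,3,2,5,4,6,7]
      (.node 30 (.cons [0,1,3,2,4,5,7,6]
        (.node 70 (.cons [0,1,6,7,4,5,2,3]
          (.leaf [3,0])
          (.cons [0,2,1,3,7,5,6,4]
          (.leaf [3,1])
          (.cons [0,6,2,4,3,5,1,7]
          (.leaf [3,2])
          .nil))))
        (.cons [0,2,1,3,4,6,5,7]
        (.leaf [2,0])
        (.cons [0,3,2,1,4,7,6,5]
        (.leaf [2,1])
        .nil))))
      (.cons [0,4,2,6,1,5,3,7]
      (.leaf [1,0])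
      (.cons [0,5,6,3,4,1,2,7]
      (.leaf [1,0])
      .nil))))
    (.cons [0,2,1,3,4,6,5,7]
    (.node 42 (.cons [0,1,4,5,2,3,6,7]
      (.leaf [1,0])
      (.cons [0,3,2,1,6,5,4,7]
      (.leaf [1,0])
      (.cons [0,5,6,3,4,1,2,7]
      (.node 26 (.cons [0,1,5,4,3,2,6,7]
        (.node 46 (.cons [0,1,3,2,4,5,7,6]
          (.leaf [3,0])
          (.cons [0,2,1,3,7,5,6,4]
          (.leaf [3,2])
          (.cons [0,3,2,1,6,5,4,7]
          (.leaf [3,0])
          .nil))))
        (.cons [0,3,2,1,4,7,6,5]
        (.leaf [2,0])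
        (.cons [0,4,7,3,1,5,6,2]
        (.leaf [2,1])
        .nil))))
      .nil))))
    (.cons [0,4,2,6,1,5,3,7]
    (.node 42 (.cons [0,1,4,5,2,3,6,7]
      (.leaf [1,0])
      (.cons [0,3,2,1,6,5,4,7]
      (.node 30 (.cons [0,1,3,2,4,5,7,6]
        (.leaf [2,1])
        (.cons [0,2,1,3,4,6,5,7]
        (.leaf [2,0])
        (.cons [0,3,2,1,4,7,6,5]
        (.node 38 (.cons [0,1,5,4,3,2,6,7]
          (.leaf [3,2])
          (.cons [0,2,1,3,7,5,6,4]
          (.leaf [3,1])
          (.cons [0,5,2,7,4,1,6,3]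
          (.leaf [3,0])
          .nil))))
        .nil))))
      (.cons [0,5,6,3,4,1,2,7]
      (.leaf [1,0])
      .nil))))
    .nil))))

/-- The certificate in order 16. -/
def tree16 : Tree :=
  (.node 7412 (.cons [0,1,2,3,5,4,7,6,9,8,11,10,12,13,14,15]
    (.node 63780 (.cons [0,1,2,3,4,5,6,7,11,10,9,8,15,14,13,12]
      (.node 10866 (.cons [0,1,15,14,4,5,11,10,8,9,7,6,12,13,3,2]
        (.leaf [2,1])
        (.cons [0,5,2,7,4,1,6,3,12,9,14,11,8,13,10,15]
        (.leaf [2,0])
        (.cons [0,5,15,10,4,1,11,14,12,9,3,6,8,13,7,2]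
        (.leaf [2,0])
        (.cons [0,6,12,10,13,11,1,7,15,9,3,5,2,4,14,8]
        (.leaf [2,0])
        (.cons [0,11,8,3,13,6,5,14,2,9,10,1,15,4,7,12]
        (.leaf [2,0])
        .nil))))))
      (.cons [0,6,5,3,4,2,1,7,12,10,9,15,8,14,13,11]
      (.leaf [1,0])
      (.cons [0,6,5,3,4,2,1,7,15,9,10,12,11,13,14,8]
      (.leaf [1,0])
      (.cons [0,9,14,7,4,13,10,3,8,1,6,15,12,5,2,11]
      (.leaf [1,0])
      (.cons [0,10,13,7,4,14,9,3,12,6,1,11,8,2,5,15]
      (.leaf [1,0])
      .nil))))))
    (.cons [0,1,12,13,10,11,6,7,8,9,4,5,2,3,14,15]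
    (.node 63780 (.cons [0,1,2,3,4,5,6,7,11,10,9,8,15,14,13,12]
      (.leaf [1,0])
      (.cons [0,6,5,3,4,2,1,7,12,10,9,15,8,14,13,11]
      (.leaf [1,0])
      (.cons [0,6,5,3,4,2,1,7,15,9,10,12,11,13,14,8]
      (.node 29702 (.cons [0,1,14,15,8,9,6,7,4,5,10,11,12,13,2,3]
        (.leaf [2,0])
        (.cons [0,2,1,3,7,5,6,4,11,9,10,8,12,14,13,15]
        (.leaf [2,0])
        (.cons [0,13,14,3,8,5,6,11,4,9,10,7,12,1,2,15]
        (.leaf [2,0])
        (.cons [0,13,2,15,4,9,6,11,8,5,10,7,12,1,14,3]
        (.leaf [2,1])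
        (.cons [0,14,13,3,11,5,6,8,7,9,10,4,12,2,1,15]
        (.leaf [2,1])
        .nil))))))
      (.cons [0,9,14,7,4,13,10,3,8,1,6,15,12,5,2,11]
      (.leaf [1,0])
      (.cons [0,10,13,7,4,14,9,3,12,6,1,11,8,2,5,15]
      (.leaf [1,0])
      .nil))))))
    (.cons [0,1,12,13,11,10,7,6,9,8,5,4,2,3,14,15]
    (.node 30470 (.cons [0,1,2,3,4,5,6,7,12,13,14,15,8,9,10,11]
      (.leaf [1,0])
      (.cons [0,2,1,3,4,6,5,7,8,10,9,11,12,14,13,15]
      (.leaf [1,0])
      (.cons [0,2,1,3,4,6,5,7,12,14,13,15,8,10,9,11]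
      (.leaf [1,0])
      (.cons [0,8,12,4,3,11,15,7,1,9,13,5,2,10,14,6]
      (.leaf [1,0])
      (.cons [0,12,8,4,3,15,11,7,2,14,10,6,1,13,9,5]
      (.leaf [1,0])
      .nil))))))
    (.cons [0,14,6,8,4,10,2,12,3,13,5,11,7,9,1,15]
    (.node 55522 (.cons [0,1,2,3,13,12,15,14,8,9,10,11,5,4,7,6]
      (.leaf [1,0])
      (.cons [0,7,4,3,2,5,6,1,13,10,9,14,15,8,11,12]
      (.leaf [1,0])
      (.cons [0,11,8,3,13,6,5,14,2,9,10,1,15,4,7,12]
      (.leaf [1,0])
      (.cons [0,11,8,3,4,15,12,7,2,9,10,1,6,13,14,5]
      (.leaf [1,0])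
      (.cons [0,14,13,3,8,6,5,11,4,10,9,7,12,2,1,15]
      (.leaf [1,0])
      .nil))))))
    (.cons [0,14,7,9,11,5,12,2,13,3,10,4,6,8,1,15]
    (.node 60934 (.cons [0,1,2,3,4,5,6,7,12,13,14,15,8,9,10,11]
      (.leaf [1,0])
      (.cons [0,2,1,3,4,6,5,7,8,10,9,11,12,14,13,15]
      (.leaf [1,0])
      (.cons [0,2,1,3,4,6,5,7,12,14,13,15,8,10,9,11]
      (.leaf [1,0])
      (.cons [0,11,15,4,3,8,12,7,5,14,10,1,6,13,9,2]
      (.leaf [1,0])
      (.cons [0,15,11,4,3,12,8,7,6,9,13,2,5,10,14,1]
      (.leaf [1,0])
      .nil))))))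
    .nil))))))

/-- The certificate for at most two elements. -/
def tree1 : Tree := .node 0 .nil

theorem check1 : checkT 0 1 [] tree1 = true := by decide +kernel

theorem check2 : checkT 1 2 [] tree1 = true := by decide +kernel

theorem check4 : checkT 2 4 [] tree4 = true := by decide +kernel

theorem check8 : checkT 3 8 [] tree8 = true := by decide +kernel

theorem check16 : checkT 4 16 [] tree16 = true := by decide +kernel

universe u

theorem keeps_of {mask : ℕ} : ∀ {l : List ℕ} {i : ℕ},
    (∀ a (h : a < l.length), mask.testBit (l[a]'h) = mask.testBit (i + a)) → keeps mask l i = true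
  | [], _, _ => rfl
  | x :: t, i, h => by
    rw [keeps, Bool.and_eq_true, beq_iff_eq]
    refine ⟨h 0 (Nat.zero_lt_succ _), keeps_of fun a ha => ?_⟩
    have := h (a + 1) (by simpa using ha)
    simpa [Nat.add_assoc, Nat.add_comm 1 a] using this

section Group

variable {T : Type u} [CommGroup T] [Finite T] {k n : ℕ} (hn : n = 2 ^ k) (e : Fin n ≃ T)
  (he : ∀ i j, e (i ^^^ j) = e i * e j)

/-- The element with a given number. -/
def elt (i : ℕ) : T := if h : i < n then e ⟨i, h⟩ else 1

/-- The number of an element. -/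
def idx (t : T) : ℕ := (e.symm t).1

/-- The table of an automorphism. -/
def table (π : MulAut T) : List ℕ := (List.range n).map fun i => idx e (π (elt e i))

theorem idx_lt (t : T) : idx e t < n := (e.symm t).2

theorem elt_idx (t : T) : elt e (idx e t) = t := by
  rw [elt, dif_pos (idx_lt e t)]
  exact e.apply_symm_apply t

theorem idx_elt {i : ℕ} (hi : i < n) : idx e (elt e i) = i := by
  rw [elt, dif_pos hi, idx, e.symm_apply_apply]

theorem idx_injective : Function.Injective (idx e) := fun s t h => by
  rw [← elt_idx e s, h, elt_idx]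

include hn he in
theorem idx_mul (s t : T) : idx e (s * t) = idx e s ^^^ idx e t := by
  have h := he (e.symm s) (e.symm t)
  rw [e.apply_symm_apply, e.apply_symm_apply] at h
  rw [idx, ← h, e.symm_apply_apply]
  subst hn
  exact Fin.xor_val_of_two_pow _ _

include hn he in
theorem idx_one : idx e (1 : T) = 0 := by
  have h := idx_mul hn e he (1 : T) 1
  rw [one_mul, Nat.xor_self] at h
  exact h

include hn he in
theorem elt_xor {i j : ℕ} (hi : i < n) (hj : j < n) : elt e (i ^^^ j) = elt e i * elt e j := by
  apply idx_injective e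
  rw [idx_mul hn e he, idx_elt e hi, idx_elt e hj, idx_elt e]
  subst hn
  exact Nat.xor_lt_two_pow hi hj

theorem table_one : table e (1 : MulAut T) = List.range n :=
  (List.map_congr_left fun i hi => by
    rw [MulAut.one_apply, idx_elt e (List.mem_range.1 hi)]).trans (List.map_id' _)

theorem table_mul (π ρ : MulAut T) : table e (π * ρ) = comp (table e π) (table e ρ) := by
  rw [table, table, table, comp, List.map_map]
  refine List.map_congr_left fun i _ => ?_
  simp only [Function.comp_apply, MulAut.mul_apply]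
  rw [List.getD_eq_getElem _ _ (by simpa using idx_lt e (ρ (elt e i))), List.getElem_map,
    List.getElem_range, elt_idx]

theorem table_pow (π : MulAut T) (m : ℕ) : table e (π ^ m) = powT n (table e π) m := by
  induction m with
  | zero => rw [pow_zero, table_one, powT]
  | succ m ih => rw [pow_succ', table_mul, ih, powT]

theorem eq_one_of_table {π : MulAut T} (h : table e π = List.range n) : π = 1 := by
  refine MulEquiv.ext fun t => idx_injective e ?_
  have h1 : table e π = table e (1 : MulAut T) := h.trans (table_one e).symm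
  have h2 := List.map_eq_map_iff.1 h1 (idx e t) (List.mem_range.2 (idx_lt e t))
  rwa [elt_idx] at h2

include hn he in
/-- An automorphism preserving a subset has its table among the candidates. -/
theorem table_mem_cands {mask : ℕ} {π : MulAut T}
    (hπ : ∀ t : T, mask.testBit (idx e (π t)) = mask.testBit (idx e t)) :
    table e π ∈ cands n mask k := by
  have main : ∀ j, j ≤ k →
      ((List.range (2 ^ j)).map fun i => idx e (π (elt e i))) ∈ cands n mask j := by
    intro j
    induction j with
    | zero =>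
      intro _
      have h0 : elt e 0 = (1 : T) := by rw [← idx_one hn e he, elt_idx]
      rw [pow_zero, List.range_one, List.map_singleton, h0, map_one, idx_one hn e he, cands]
      exact List.mem_singleton_self _
    | succ j ih =>
      intro hj
      have hjn : 2 ^ (j + 1) ≤ n := hn ▸ Nat.pow_le_pow_right two_pos hj
      have hlt : 2 ^ j < n := lt_of_lt_of_le (Nat.pow_lt_pow_right one_lt_two (Nat.lt_succ_self j)) hjn
      have hxor : ∀ i, i < 2 ^ j → 2 ^ j ^^^ i = 2 ^ j + i := fun i hi => by
        apply Nat.eq_of_testBit_eq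
        intro b
        rw [Nat.testBit_xor, Nat.testBit_two_pow]
        rcases lt_trichotomy b j with hb | rfl | hb
        · rw [Nat.testBit_two_pow_add_gt hb]
          simp [hb.ne']
        · rw [Nat.testBit_two_pow_add_eq, Nat.testBit_lt_two_pow hi]
          simp
        · have h1 : i < 2 ^ b := hi.trans_le (Nat.pow_le_pow_right two_pos hb.le)
          have h2 : 2 ^ j + i < 2 ^ b := lt_of_lt_of_le (show 2 ^ j + i < 2 ^ (j + 1) by
            rw [pow_succ]; omega) (Nat.pow_le_pow_right two_pos hb)
          rw [Nat.testBit_lt_two_pow h1, Nat.testBit_lt_two_pow h2]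
          simp [hb.ne]
      set p := idx e (π (elt e (2 ^ j))) with hp
      set t := (List.range (2 ^ j)).map fun i => idx e (π (elt e i)) with ht
      have hnew : ∀ i, i < 2 ^ j → idx e (π (elt e (2 ^ j + i))) = p ^^^ idx e (π (elt e i)) := by
        intro i hi
        rw [← hxor i hi, elt_xor hn e he hlt (by omega), map_mul, idx_mul hn e he]
      have hlist : (List.range (2 ^ (j + 1))).map (fun i => idx e (π (elt e i))) =
          t ++ t.map (p ^^^ ·) := by
        rw [pow_succ, mul_two, List.range_add, List.map_append, List.map_map, ht, List.map_map]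
        congr 1
        exact List.map_congr_left fun i hi => hnew i (List.mem_range.1 hi)
      rw [cands, hlist, List.mem_flatMap]
      refine ⟨t, ih (by omega), List.mem_map.2 ⟨p, List.mem_filter.2 ⟨List.mem_range.2 (idx_lt e _), ?_⟩,
        rfl⟩⟩
      rw [Bool.and_eq_true, Bool.not_eq_true', List.contains_eq_mem, decide_eq_false_iff_not]
      refine ⟨fun hmem => ?_, keeps_of ?_⟩
      · obtain ⟨i, hi, hip⟩ := List.mem_map.1 hmem
        have hi' := List.mem_range.1 hi
        have h1 : elt e i = elt e (2 ^ j) := π.injective (idx_injective e hip)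
        have h2 := congrArg (idx e) h1
        rw [idx_elt e (by omega), idx_elt e hlt] at h2
        omega
      · intro a ha
        simp only [ht, List.length_map, List.length_range] at ha ⊢
        rw [List.getElem_map, List.getElem_map, List.getElem_range, ← hnew a ha, hπ,
          idx_elt e (by omega)]
  have := main k le_rfl
  rwa [← hn] at this

variable (P : Subgroup (MulAut T))

/-- The tables of the elements of the group. -/
def InP (s : List ℕ) : Prop := ∃ π ∈ P, table e π = s

theorem InP_one : InP e P (List.range n) := ⟨1, P.one_mem, table_one e⟩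

theorem InP_powT {s : List ℕ} (hs : InP e P s) (m : ℕ) : InP e P (powT n s m) := by
  obtain ⟨π, hπ, rfl⟩ := hs
  exact ⟨π ^ m, P.pow_mem hπ m, table_pow e π m⟩

theorem InP_word {chosen : List (List ℕ)} (hc : ∀ s ∈ chosen, InP e P s) (w : List ℕ) :
    InP e P (w.foldr (fun i acc => comp (chosen.getD i (List.range n)) acc) (List.range n)) := by
  induction w with
  | nil => exact InP_one e P
  | cons i w ih =>
    obtain ⟨ρ, hρ, hρe⟩ := ih
    have hi : InP e P (chosen.getD i (List.range n)) := by
      rcases lt_or_ge i chosen.length with h | h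
      · rw [List.getD_eq_getElem _ _ h]
        exact hc _ (List.getElem_mem h)
      · rw [List.getD_eq_default _ _ h]
        exact InP_one e P
    obtain ⟨π, hπ, hπe⟩ := hi
    refine ⟨π * ρ, P.mul_mem hπ hρ, ?_⟩
    rw [table_mul, hπe, hρe, List.foldr_cons]

theorem not_has3 (h3 : ¬ 3 ∣ Nat.card P) {s : List ℕ} (hs : InP e P s) : has3 n s = false := by
  obtain ⟨π, hπ, rfl⟩ := hs
  rw [has3, List.any_eq_false]
  intro m _ hm
  simp only [Bool.and_eq_true, beq_iff_eq, Bool.not_eq_true', beq_eq_false_iff_ne, ne_eq] at hm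
  obtain ⟨h1, h2⟩ := hm
  rw [← table_pow] at h1 h2
  refine h2 ?_
  have hord : orderOf π ∣ Nat.card P := by
    rw [← Subgroup.orderOf_mk π hπ]
    exact orderOf_dvd_natCard _
  have hcop : Nat.Coprime (orderOf π) 3 :=
    (Nat.prime_three.coprime_iff_not_dvd.2 fun h => h3 (h.trans hord)).symm
  have hm' : orderOf π ∣ m :=
    hcop.dvd_of_dvd_mul_left (orderOf_dvd_of_pow_eq_one (eq_one_of_table e h1))
  rw [orderOf_dvd_iff_pow_eq_one.1 hm', table_one]

include hn he

mutual

theorem checkT_sound (h3 : ¬ 3 ∣ Nat.card P)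
    (hall : ∀ mask : ℕ, ∃ π ∈ P, π ≠ 1 ∧
      ∀ t : T, mask.testBit (idx e (π t)) = mask.testBit (idx e t)) :
    ∀ (chosen : List (List ℕ)), (∀ s ∈ chosen, InP e P s) → ∀ (tr : Tree),
      checkT k n chosen tr = true → False
  | chosen, hc, .leaf w, h => by
    rw [checkT, not_has3 e P h3 (InP_word e P hc w)] at h
    exact Bool.false_ne_true h
  | chosen, hc, .node mask br, h => by
    rw [checkT, Bool.and_eq_true, List.all_eq_true] at h
    obtain ⟨π, hπ, hne, hkeep⟩ := hall mask
    have hg := h.1 _ (table_mem_cands hn e he hkeep)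
    simp only [Bool.or_eq_true, beq_iff_eq] at hg
    rcases hg with (hg | hg) | hg
    · exact hne (eq_one_of_table e hg)
    · exact Bool.false_ne_true ((not_has3 e P h3 ⟨π, hπ, rfl⟩).symm.trans hg)
    · exact checkBr_sound h3 hall chosen hc (table e π) ⟨π, hπ, rfl⟩ br h.2 hg

theorem checkBr_sound (h3 : ¬ 3 ∣ Nat.card P)
    (hall : ∀ mask : ℕ, ∃ π ∈ P, π ≠ 1 ∧
      ∀ t : T, mask.testBit (idx e (π t)) = mask.testBit (idx e t)) :
    ∀ (chosen : List (List ℕ)), (∀ s ∈ chosen, InP e P s) → ∀ (g : List ℕ), InP e P g → ∀ (br : Br),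
      checkBr k n chosen br = true → covered n g br = true → False
  | _, _, _, _, .nil, _, hg => by
    rw [covered] at hg
    exact Bool.false_ne_true hg
  | chosen, hc, g, hgP, .cons h t rest, hb, hg => by
    rw [checkBr, Bool.and_eq_true] at hb
    rw [covered, Bool.or_eq_true, List.any_eq_true] at hg
    rcases hg with ⟨i, _, hi⟩ | hg
    · refine checkT_sound h3 hall (chosen ++ [h]) (fun s hs => ?_) t hb.1
      rcases List.mem_append.1 hs with hs | hs
      · exact hc s hs
      · rw [List.mem_singleton.1 hs, ← beq_iff_eq.1 hi]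
        exact InP_powT e P hgP i
    · exact checkBr_sound h3 hall chosen hc g hgP rest hb.2 hg

end

/-- A checked tree yields a subset. -/
theorem exists_of_check (h3 : ¬ 3 ∣ Nat.card P) {tr : Tree} (htr : checkT k n [] tr = true) :
    ∃ Δ : Finset T, 1 ∉ Δ ∧ ∀ π ∈ P, (∀ t : T, π t ∈ Δ ↔ t ∈ Δ) → π = 1 := by
  classical
  by_contra hcon
  refine checkT_sound hn e he P h3 (fun mask => ?_) [] (fun s hs => by simp at hs) tr htr
  letI := Fintype.ofFinite T
  have hex : ¬ ∀ π ∈ P, (∀ t : T,
      π t ∈ Finset.univ.filter (fun s => s ≠ 1 ∧ mask.testBit (idx e s) = true) ↔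
        t ∈ Finset.univ.filter (fun s => s ≠ 1 ∧ mask.testBit (idx e s) = true)) → π = 1 :=
    fun h => hcon ⟨_, by simp, h⟩
  push Not at hex
  obtain ⟨π, hπ, hkeep, hne⟩ := hex
  refine ⟨π, hπ, hne, fun t => ?_⟩
  rcases eq_or_ne t 1 with rfl | ht
  · rw [map_one]
  have := hkeep t
  simp only [Finset.mem_filter, Finset.mem_univ, true_and, ne_eq, EmbeddingLike.map_eq_one_iff, ht,
    not_false_iff] at this
  exact Bool.eq_iff_iff.2 this

end Group

/-- In a group of exponent two and order at most sixteen, a group of automorphisms of order prime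
to three preserves some subset only trivially. -/
theorem rigidSmall : Cfsg.Agent.H86.BaseTwo.RigidSmall.{u} := by
  intro T _ _ hT hcard P h3
  obtain ⟨k, hk⟩ : ∃ k, Nat.card T = 2 ^ k := by
    have : Fact (Nat.Prime 2) := ⟨Nat.prime_two⟩
    exact IsPGroup.iff_card.1 fun t => ⟨1, by rw [pow_one, pow_two, hT]⟩
  have hk4 : k ≤ 4 := by
    rw [hk] at hcard
    exact (Nat.pow_le_pow_iff_right one_lt_two).1 (by simpa using hcard)
  obtain ⟨f, hf, hmul⟩ := exists_xor_coord hT hk4 hk
  let e := Equiv.ofBijective f hf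
  obtain ⟨tr, htr⟩ : ∃ tr, checkT k (2 ^ k) [] tr = true := by
    interval_cases k
    exacts [⟨_, check1⟩, ⟨_, check2⟩, ⟨_, check4⟩, ⟨_, check8⟩, ⟨_, check16⟩]
  exact exists_of_check rfl e hmul P h3 htr

end Cfsg.Agent.H67.BaseTwo.Rigid

namespace Cfsg.Agent.H67.BaseTwo

universe u

/-- In a group of exponent two and order at most sixteen, a group of automorphisms of order prime
to three preserves some subset only trivially. -/
theorem rigidSmall : Cfsg.Agent.H86.BaseTwo.RigidSmall.{u} := Rigid.rigidSmall

end Cfsg.Agent.H67.BaseTwo
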